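import Cfsg.Agent.Lib.LinearPPart.Symp

/-!
# The numerical estimate

If `q ∣ p ^ d - 1` and `p ^ a` divides the product of the `q ^ (2 i) - 1`, `i ≤ s`, then
`d * p ^ a ≤ p ^ (d (q ^ s - 1))`.
-/

set_option autoImplicit false

namespace CfsgLib.LinearPPart

variable {p q : ℕ}

theorem pow_split (hp : p.Prime) {a A B : ℕ} (h : p ^ a ∣ A * B) :
    ∃ a₁ a₂, a = a₁ + a₂ ∧ p ^ a₁ ∣ A ∧ p ^ a₂ ∣ B := by
  obtain ⟨y, z, hy, hz, hyz⟩ := Nat.dvd_mul.mp h
  obtain ⟨a₁, -, rfl⟩ := (Nat.dvd_prime_pow hp).mp (Dvd.intro z hyz)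
  obtain ⟨a₂, -, rfl⟩ := (Nat.dvd_prime_pow hp).mp (Dvd.intro_left (p ^ a₁) hyz)
  exact ⟨a₁, a₂, Nat.pow_right_injective hp.two_le (by simp only [pow_add]; exact hyz.symm), hy, hz⟩

theorem exponent_le_of_dvd_sq_sub_one (hp : p.Prime) {x b m k : ℕ} (hx : 2 ≤ x)
    (h : p ^ b ∣ x ^ 2 - 1) (hm : x + 1 ≤ p ^ m) (hk : k = 1 ∨ k = 0 ∧ p ≠ 2) : b ≤ k + m := by
  rw [show x ^ 2 - 1 = (x + 1) * (x - 1) by
    simpa using Nat.sq_sub_sq x 1] at h
  obtain ⟨b₁, b₂, rfl, h₁, h₂⟩ := pow_split hp h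
  have hb₁ : b₁ ≤ m := (Nat.pow_le_pow_iff_right hp.one_lt).mp
    ((Nat.le_of_dvd (by omega) h₁).trans hm)
  have hb₂ : b₂ ≤ m := (Nat.pow_le_pow_iff_right hp.one_lt).mp
    ((Nat.le_of_dvd (by omega) h₂).trans (by omega))
  have hmin : p ^ min b₁ b₂ ∣ 2 := by
    have h1 := (pow_dvd_pow p (min_le_left b₁ b₂)).trans h₁
    have h2 := (pow_dvd_pow p (min_le_right b₁ b₂)).trans h₂
    have := Nat.dvd_sub h1 h2
    rwa [show x + 1 - (x - 1) = 2 by omega] at this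
  have hle : min b₁ b₂ ≤ k := by
    obtain ⟨j, hj, he⟩ := (Nat.dvd_prime_pow Nat.prime_two (m := 1)).mp (by simpa using hmin)
    rcases Nat.eq_zero_or_pos (min b₁ b₂) with h0 | h0
    · omega
    have hp2 : p ∣ 2 := (dvd_pow_self p h0.ne').trans hmin
    rw [Nat.prime_dvd_prime_iff_eq hp Nat.prime_two] at hp2
    subst hp2
    have : min b₁ b₂ ≤ 1 := by
      rw [← Nat.pow_dvd_pow_iff_le_right Nat.one_lt_two, pow_one]; exact hmin
    omega
  omega

theorem exponent_le_sympProd (hp : p.Prime) (hq : q.Prime) {d k : ℕ} (hqd : q + 1 ≤ p ^ d)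
    (hk : k = 1 ∨ k = 0 ∧ p ≠ 2) :
    ∀ {s a : ℕ}, p ^ a ∣ sympProd q s → 2 * a ≤ 2 * (k * s) + d * (s * (s + 1)) := by
  intro s
  induction s with
  | zero =>
    intro a h
    simp only [sympProd, Nat.dvd_one, Nat.pow_eq_one] at h
    rcases h with h | h
    · exact absurd h hp.one_lt.ne'
    · simp [h]
  | succ s ih =>
    intro a h
    obtain ⟨b, a', rfl, hb, ha'⟩ := pow_split hp h
    rw [mul_comm 2 (s + 1), pow_mul] at hb
    have hm : q ^ (s + 1) + 1 ≤ p ^ (d * (s + 1)) := by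
      rw [pow_mul]
      exact le_trans (Nat.pow_lt_pow_left (Nat.lt_succ_self q) (by omega))
        (Nat.pow_le_pow_left hqd _)
    have h1 := exponent_le_of_dvd_sq_sub_one hp
      (le_trans hq.two_le (Nat.le_self_pow (by omega) q)) hb hm hk
    have h2 := ih ha'
    nlinarith

theorem tri_le_two_pow : ∀ {s : ℕ}, 3 ≤ s → s * (s + 1) + 4 ≤ 2 * 2 ^ s := by
  intro s hs
  induction s, hs using Nat.le_induction with
  | base => norm_num
  | succ s hs ih =>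
    have : s + 1 ≤ 2 ^ s := Nat.lt_two_pow_self
    rw [pow_succ]
    nlinarith

theorem tri_le_three_pow : ∀ {s : ℕ}, 1 ≤ s → s * (s + 1) + 2 * (s - 1) + 4 ≤ 2 * 3 ^ s := by
  intro s hs
  induction s, hs using Nat.le_induction with
  | base => norm_num
  | succ s hs ih =>
    have : s + 1 ≤ 3 ^ s := Nat.lt_pow_self (by norm_num)
    rw [pow_succ, show s + 1 - 1 = (s - 1) + 1 by omega]
    nlinarith

theorem exponent_le (hp : p.Prime) (hq : q.Prime) (hpq : p ≠ q) {d s a : ℕ} (hd : 1 ≤ d)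
    (hs : 1 ≤ s) (hqd : q + 1 ≤ p ^ d) (h : p ^ a ∣ sympProd q s) :
    a ≤ d * (q ^ s - 2) + 1 := by
  rcases hq.two_le.eq_or_lt with hq2 | hq3
  · subst hq2
    rcases Nat.lt_or_ge s 3 with hs3 | hs3
    · have hp3 : 3 ≤ p := by
        have := hp.two_le
        omega
      interval_cases s
      · have : p ^ a ≤ 3 := Nat.le_of_dvd (by norm_num) (by simpa [sympProd] using h)
        by_contra hc
        have := (Nat.pow_le_pow_right (n := p) (by omega) (show 2 ≤ a by omega)).trans this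
        nlinarith
      · have : p ^ a ≤ 45 := Nat.le_of_dvd (by norm_num) (by simpa [sympProd] using h)
        by_contra hc
        have := (Nat.pow_le_pow_right (n := p) (by omega) (show 4 ≤ a by omega)).trans this
        have := (Nat.pow_le_pow_left hp3 4).trans this
        norm_num at this
    · have := exponent_le_sympProd hp hq hqd (Or.inr ⟨rfl, hpq⟩) h
      have ht := tri_le_two_pow hs3
      have h2 : 2 ≤ 2 ^ s := Nat.le_self_pow (by omega) 2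
      obtain ⟨Q, hQ⟩ : ∃ Q, 2 ^ s = Q + 2 := ⟨2 ^ s - 2, by omega⟩
      rw [hQ] at ht ⊢
      simp only [Nat.zero_mul, mul_zero, zero_add] at this
      rw [Nat.add_sub_cancel]
      nlinarith
  · have := exponent_le_sympProd hp hq hqd (Or.inl rfl) h
    have ht := tri_le_three_pow hs
    have h3 : 3 ^ s ≤ q ^ s := Nat.pow_le_pow_left hq3 s
    have hle : d * (3 ^ s - 2) ≤ d * (q ^ s - 2) := Nat.mul_le_mul_left d (by omega)
    have h3' : 3 ≤ 3 ^ s := Nat.le_self_pow (by omega) 3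
    obtain ⟨Q, hQ⟩ : ∃ Q, 3 ^ s = Q + 2 := ⟨3 ^ s - 2, by omega⟩
    rw [hQ, Nat.add_sub_cancel] at hle
    rw [hQ] at ht
    obtain ⟨t, rfl⟩ : ∃ t, s = t + 1 := ⟨s - 1, by omega⟩
    rw [Nat.add_sub_cancel] at ht
    nlinarith

/-- The numerical estimate. -/
theorem arith_bound (hp : p.Prime) (hq : q.Prime) (hpq : p ≠ q) {d s a : ℕ} (hd : 1 ≤ d)
    (hs : 1 ≤ s) (hqd : q ∣ p ^ d - 1) (h : p ^ a ∣ sympProd q s) :
    d * p ^ a ≤ p ^ (d * (q ^ s - 1)) := by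
  have h1 : 1 < p ^ d := Nat.one_lt_pow (by omega) hp.one_lt
  have h2 := exponent_le hp hq hpq hd hs (by have := Nat.le_of_dvd (by omega) hqd; omega) h
  have h3 : 2 ≤ q ^ s := le_trans hq.two_le (Nat.le_self_pow (by omega) q)
  obtain ⟨Q, hQ⟩ : ∃ Q, q ^ s = Q + 2 := ⟨q ^ s - 2, by omega⟩
  obtain ⟨e, rfl⟩ : ∃ e, d = e + 1 := ⟨d - 1, by omega⟩
  rw [hQ, Nat.add_sub_cancel] at h2
  rw [hQ, show Q + 2 - 1 = Q + 1 by omega, show (e + 1) * (Q + 1) = e + ((e + 1) * Q + 1) by ring,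
    pow_add]
  exact Nat.mul_le_mul (Nat.lt_pow_self hp.one_lt) (Nat.pow_le_pow_right hp.pos h2)

end CfsgLib.LinearPPart
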