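import Cfsg.Agent.Lib.LinearPPart.Split
import Cfsg.Agent.Lib.LinearPPart.Arith
import Cfsg.Agent.Lib.Hall.Chief

/-!
# The `p`-part of a solvable linear group without normal `p`-subgroups

If a finite solvable group `X` with trivial `p`-core acts faithfully on a non-trivial group `V` of
exponent `p`, then `p` times the `p`-part of `|X|` is at most `|V|`.
-/

set_option autoImplicit false

universe u v

namespace CfsgLib.LinearPPart

open scoped commutatorElement

variable {p : ℕ} [hp : Fact p.Prime]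

/-- The `p`-part of the order. -/
noncomputable def ppart (p : ℕ) (X : Type*) : ℕ := p ^ (Nat.card X).factorization p

/-- No non-trivial normal `p`-subgroup. -/
def PFree (p : ℕ) (X : Type*) [Group X] : Prop := Cfsg.pCore p X = ⊥

theorem ppart_pos (X : Type*) : 0 < ppart p X := pow_pos hp.out.pos _

theorem eq_bot_of_pfree {X : Type*} [Group X] (h : PFree p X) {N : Subgroup X} (hN : N.Normal)
    (hNp : IsPGroup p N) : N = ⊥ := le_bot_iff.mp (h ▸ CfsgLib.Fitting.le_pCore hN hNp)

theorem pfree_of_forall {X : Type*} [Group X] [Finite X]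
    (h : ∀ N : Subgroup X, N.Normal → IsPGroup p N → N = ⊥) : PFree p X :=
  h _ (CfsgLib.Fitting.pCore_normal p) (CfsgLib.Fitting.pCore_isPGroup p)

theorem pfree_of_normal {X : Type*} [Group X] [Finite X] (h : PFree p X) (K : Subgroup X)
    [K.Normal] : PFree p K := by
  have h1 := CfsgLib.PSolvable.map_pCore_le (p := p) K
  rw [h, le_bot_iff, Subgroup.map_eq_bot_iff_of_injective _ K.subtype_injective] at h1
  exact h1

theorem ppart_eq_mul {X : Type*} [Group X] [Finite X] (K : Subgroup X) :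
    ppart p X = ppart p K * p ^ K.index.factorization p := by
  rw [ppart, ppart, ← pow_add, ← K.card_mul_index, Nat.factorization_mul Nat.card_pos.ne'
    K.index_ne_zero_of_finite]
  rfl

theorem ppart_eq_one {X : Type*} [Group X] [Finite X] (h : ¬ p ∣ Nat.card X) : ppart p X = 1 := by
  rw [ppart, Nat.factorization_eq_zero_of_not_dvd h, pow_zero]

theorem ppart_le_of_pgroup {X : Type*} [Group X] [Finite X] {P : Subgroup X} (hP : IsPGroup p P) :
    Nat.card P ≤ ppart p X := by
  obtain ⟨k, hk⟩ := IsPGroup.iff_card.mp hP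
  rw [hk, ppart]
  refine Nat.pow_le_pow_right hp.out.pos ?_
  exact (hp.out.pow_dvd_iff_le_factorization Nat.card_pos.ne').mp (hk ▸ P.card_subgroup_dvd_card)

variable {X : Type u} [Group X] {V : Type v} [AddCommGroup V]

theorem inv_apply (ρ : X →* AddMonoid.End V) (g : X) (x : V) : ρ g⁻¹ (ρ g x) = x := by
  rw [← end_mul_apply, ← map_mul, inv_mul_cancel, map_one, end_one_apply]

theorem rho_inv_mul (ρ : X →* AddMonoid.End V) (g : X) : ρ g⁻¹ * ρ g = 1 := by
  rw [← map_mul, inv_mul_cancel, map_one]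

/-- The statement proved by induction. -/
def ChainBound (p : ℕ) (X : Type u) [Group X] (V : Type v) [AddCommGroup V] : Prop :=
  ∀ (ρ : X →* AddMonoid.End V), Function.Injective ρ → ∀ (r : ℕ) (U : ℕ → AddSubgroup V),
    (∀ i < r, U i < U (i + 1)) → (∀ i g, ∀ x ∈ U i, ρ g x ∈ U i) →
    p ^ r * ppart p X ≤ Nat.card V

/-- The induction hypothesis: the bound for all smaller modules. -/
def SmallerBound (p : ℕ) (n : ℕ) : Prop :=
  ∀ (X : Type u) [Group X] [Finite X], Group.IsSolvable X → PFree p X →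
    ∀ (V : Type v) [AddCommGroup V] [Finite V], (∀ x : V, p • x = 0) → Nat.card V < n →
      ChainBound p X V

theorem prime_dvd_card [Finite V] [Nontrivial V] (hV : ∀ x : V, p • x = 0) : p ∣ Nat.card V := by
  obtain ⟨x, hx⟩ := exists_ne (0 : V)
  rw [← addOrderOf_eq_prime (hV x) hx]
  exact addOrderOf_dvd_natCard x

/-- A faithful irreducible group has no normal `p`-subgroup. -/
theorem pfree_of_irreducible [Finite X] [Finite V] [Nontrivial V] (hV : ∀ x : V, p • x = 0)
    (ρ : X →* AddMonoid.End V) (hρ : Function.Injective ρ)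
    (hirr : ∀ W : AddSubgroup V, (∀ g, ∀ x ∈ W, ρ g x ∈ W) → W = ⊥ ∨ W = ⊤) : PFree p X := by
  refine pfree_of_forall fun N hN hNp => ?_
  letI : MulAction N V :=
    { smul := fun g x => ρ g x
      one_smul := fun x => by show ρ 1 x = x; rw [map_one, end_one_apply]
      mul_smul := fun g h x => by
        show ρ ((g : X) * h) x = ρ g (ρ h x)
        rw [map_mul, end_mul_apply] }
  let W : AddSubgroup V :=
    { carrier := {x | ∀ g : N, ρ g x = x}
      zero_mem' := fun g => map_zero _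
      add_mem' := fun {a b} ha hb g => by rw [map_add, ha g, hb g]
      neg_mem' := fun {a} ha g => by rw [map_neg, ha g] }
  obtain ⟨b, hb, hb0⟩ := hNp.exists_fixed_point_of_prime_dvd_card_of_fixed_point V
    (prime_dvd_card hV) (a := 0) (fun g => map_zero (ρ g))
  have hW : W = ⊤ := by
    refine (hirr W fun g x hx n => ?_).resolve_left fun h => ?_
    · have h1 := hx ⟨g⁻¹ * n * g, by simpa using hN.conj_mem n n.2 g⁻¹⟩
      calc ρ n (ρ g x) = ρ (g * (g⁻¹ * n * g)) x := by
            rw [← end_mul_apply, ← map_mul]; group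
        _ = ρ g x := by rw [map_mul, end_mul_apply]; exact congrArg (ρ g) h1
    · have : b ∈ (⊥ : AddSubgroup V) := h ▸ (fun g => hb g : b ∈ W)
      exact hb0 (AddSubgroup.mem_bot.mp this).symm
  rw [Subgroup.eq_bot_iff_forall]
  intro g hg
  exact (hom_injective_iff ρ).mp hρ g fun x => (hW ▸ AddSubgroup.mem_top x : x ∈ W) ⟨g, hg⟩

/-- The reducible case. -/
theorem chain_step [Finite X] [Finite V] (hsolv : Group.IsSolvable X) (hfree : PFree p X)
    (hV : ∀ x : V, p • x = 0) (IH : SmallerBound.{u, v} p (Nat.card V))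
    (ρ : X →* AddMonoid.End V) (hρ : Function.Injective ρ)
    {W₀ : AddSubgroup V} (hW₀ : ∀ g, ∀ x ∈ W₀, ρ g x ∈ W₀) (hb : W₀ ≠ ⊥) (ht : W₀ ≠ ⊤)
    (r : ℕ) (U : ℕ → AddSubgroup V) (hU : ∀ i < r, U i < U (i + 1))
    (hUinv : ∀ i g, ∀ x ∈ U i, ρ g x ∈ U i) : p ^ r * ppart p X ≤ Nat.card V := by
  classical
  obtain ⟨T, hT, hTb, hTr⟩ : ∃ T : AddSubgroup V, (∀ g, ∀ x ∈ T, ρ g x ∈ T) ∧ T ≠ ⊥ ∧
      (0 < r → T = U 1) := by
    rcases Nat.eq_zero_or_pos r with rfl | hr
    · exact ⟨W₀, hW₀, hb, fun h => absurd h (lt_irrefl 0)⟩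
    · exact ⟨U 1, hUinv 1, ne_bot_of_gt (hU 0 hr), fun _ => rfl⟩
  haveI : Finite (AddSubgroup V) :=
    Finite.of_injective (fun H => (H : Set V)) SetLike.coe_injective
  obtain ⟨W, ⟨hW, hWb, hWT⟩, hWmin⟩ := (Set.toFinite {W : AddSubgroup V |
    (∀ g, ∀ x ∈ W, ρ g x ∈ W) ∧ W ≠ ⊥ ∧ W ≤ T}).exists_minimal ⟨T, hT, hTb, le_rfl⟩
  have hWt : W ≠ ⊤ := by
    rintro rfl
    exact ht (top_le_iff.mp (hWmin ⟨hW₀, hb, le_trans le_top hWT⟩ le_top))
  haveI : Nontrivial W := (AddSubgroup.nontrivial_iff_ne_bot W).mpr hWb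
  set ρW := restrictHom ρ W hW with hρW
  set K := ρW.toHomUnits.ker with hK
  have hKmem : ∀ k ∈ K, ∀ x ∈ W, ρ k x = x := fun k hk x hx => by
    have h1 : ρW k = 1 := congrArg Units.val (MonoidHom.mem_ker.mp hk)
    exact congrArg Subtype.val (congrArg (fun f : AddMonoid.End W => f ⟨x, hx⟩) h1)
  haveI : Group.IsSolvable K := inferInstance
  haveI : Group.IsSolvable (X ⧸ K) := inferInstance
  -- the action on `W`
  let ρ₁ : X ⧸ K →* AddMonoid.End W := (Units.coeHom _).comp (QuotientGroup.kerLift ρW.toHomUnits)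
  have hρ₁ : Function.Injective ρ₁ := Units.val_injective.comp (QuotientGroup.kerLift_injective _)
  have hρ₁apply : ∀ (g : X) (x : W), (ρ₁ g x : V) = ρ g x := fun g x => rfl
  have hpW : ∀ x : W, p • x = 0 := fun x => Subtype.ext (hV x)
  have hcardV : Nat.card V = Nat.card W * Nat.card (V ⧸ W) := by
    rw [W.card_eq_card_quotient_mul_card_addSubgroup, mul_comm]
  haveI : Nontrivial (V ⧸ W) := QuotientAddGroup.nontrivial_iff.mpr hWt
  have hWlt : Nat.card W < Nat.card V := by
    rw [hcardV]; exact lt_mul_of_one_lt_right Nat.card_pos (Finite.one_lt_card)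
  have hQlt : Nat.card (V ⧸ W) < Nat.card V := by
    rw [hcardV]; exact lt_mul_of_one_lt_left Nat.card_pos (Finite.one_lt_card)
  have hirr : ∀ Z : AddSubgroup W, (∀ g, ∀ x ∈ Z, ρ₁ g x ∈ Z) → Z = ⊥ ∨ Z = ⊤ := by
    intro Z hZ
    refine or_iff_not_imp_left.mpr fun hZb => ?_
    have hle : Z.map W.subtype ≤ W := fun x ⟨z, _, e⟩ => e ▸ z.2
    have hinv : ∀ g, ∀ x ∈ Z.map W.subtype, ρ g x ∈ Z.map W.subtype := by
      rintro g x ⟨z, hz, rfl⟩
      exact ⟨ρ₁ g z, hZ _ z hz, hρ₁apply g z⟩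
    have hne : Z.map W.subtype ≠ ⊥ := fun e => hZb
      ((AddSubgroup.map_eq_bot_iff_of_injective _ W.subtype_injective).mp e)
    have h := hWmin ⟨hinv, hne, hle.trans hWT⟩ hle
    refine eq_top_iff.mpr fun x _ => ?_
    obtain ⟨z, hz, e⟩ := h x.2
    exact Subtype.ext (e : (z : V) = x) ▸ hz
  have hfree₁ : PFree p (X ⧸ K) := pfree_of_irreducible hpW ρ₁ hρ₁ hirr
  have h1 : p * ppart p (X ⧸ K) ≤ Nat.card W := by
    have := IH (X ⧸ K) inferInstance hfree₁ W hpW hWlt ρ₁ hρ₁ 1 (fun i => if i = 0 then ⊥ else ⊤)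
      (fun i hi => by
        obtain rfl : i = 0 := by omega
        simp)
      (fun i g x hx => by
        by_cases h : i = 0
        · simp only [h, if_true] at hx ⊢
          rw [AddSubgroup.mem_bot.mp hx, map_zero]; exact zero_mem _
        · simp [h])
    rwa [pow_one] at this
  -- the action on `V ⧸ W`
  let ρ₂ : K →* AddMonoid.End (V ⧸ W) :=
    { toFun := fun k => QuotientAddGroup.map W W (ρ k) fun x hx => hW k x hx
      map_one' := DFunLike.ext _ _ fun y => by
        obtain ⟨x, rfl⟩ := QuotientAddGroup.mk_surjective y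
        show ((ρ ((1 : K) : X) x : V) : V ⧸ W) = x
        rw [OneMemClass.coe_one, map_one, end_one_apply]
      map_mul' := fun a b => DFunLike.ext _ _ fun y => by
        obtain ⟨x, rfl⟩ := QuotientAddGroup.mk_surjective y
        show ((ρ ((a * b : K) : X) x : V) : V ⧸ W) = ((ρ a (ρ b x) : V) : V ⧸ W)
        rw [Subgroup.coe_mul, map_mul, end_mul_apply] }
  have hρ₂apply : ∀ (k : K) (x : V), ρ₂ k (x : V ⧸ W) = ((ρ k x : V) : V ⧸ W) := fun k x => rfl
  have hρ₂ : Function.Injective ρ₂ := by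
    set N : Subgroup X := ρ₂.toHomUnits.ker.map K.subtype with hN
    have hNmem : ∀ g, g ∈ N ↔ g ∈ K ∧ ∀ x, ρ g x - x ∈ W := by
      intro g
      constructor
      · rintro ⟨k, hk, rfl⟩
        refine ⟨k.2, fun x => ?_⟩
        have h : ρ₂ k = 1 := congrArg Units.val (MonoidHom.mem_ker.mp hk)
        have := congrArg (fun f : AddMonoid.End (V ⧸ W) => f (x : V ⧸ W)) h
        rw [hρ₂apply, end_one_apply, QuotientAddGroup.eq_iff_sub_mem] at this
        exact this
      · rintro ⟨hg, h⟩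
        refine ⟨⟨g, hg⟩, MonoidHom.mem_ker.mpr (Units.ext (DFunLike.ext _ _ fun y => ?_)), rfl⟩
        obtain ⟨x, rfl⟩ := QuotientAddGroup.mk_surjective y
        exact QuotientAddGroup.eq_iff_sub_mem.mpr (h x)
    have hNn : N.Normal := ⟨fun n hn g => by
      rw [hNmem] at hn ⊢
      refine ⟨(MonoidHom.normal_ker _).conj_mem n hn.1 g, fun x => ?_⟩
      have h := hW g _ (hn.2 (ρ g⁻¹ x))
      rw [map_sub] at h
      convert h using 2
      · rw [map_mul, map_mul, end_mul_apply, end_mul_apply]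
      · have := inv_apply ρ g⁻¹ x
        rw [inv_inv] at this
        exact this.symm⟩
    have hNp : IsPGroup p N := fun n => ⟨1, by
      obtain ⟨hnK, hn⟩ := (hNmem _).mp n.2
      refine Subtype.ext ?_
      rw [pow_one, SubmonoidClass.coe_pow]
      refine (hom_injective_iff ρ).mp hρ _ fun x => ?_
      have key : ∀ j : ℕ, ρ ((n : X) ^ j) x = x + j • (ρ n x - x) := by
        intro j
        induction j with
        | zero => rw [pow_zero, map_one, end_one_apply, zero_smul, add_zero]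
        | succ j ih =>
          rw [pow_succ', map_mul, end_mul_apply, ih, map_add, map_nsmul,
            hKmem _ hnK _ (hn x), succ_nsmul]
          abel
      rw [key, hV, add_zero]⟩
    have hbot := eq_bot_of_pfree hfree hNn hNp
    rw [hN, Subgroup.map_eq_bot_iff_of_injective _ K.subtype_injective, MonoidHom.ker_eq_bot_iff] at hbot
    exact Units.val_injective.comp hbot
  have h2 : p ^ (r - 1) * ppart p K ≤ Nat.card (V ⧸ W) := by
    refine IH K inferInstance (pfree_of_normal hfree K) (V ⧸ W) ?_ hQlt ρ₂ hρ₂ (r - 1)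
      (fun i => (U (i + 1)).map (QuotientAddGroup.mk' W)) ?_ ?_
    · intro y
      obtain ⟨x, rfl⟩ := QuotientAddGroup.mk_surjective y
      rw [← QuotientAddGroup.mk_nsmul, hV, QuotientAddGroup.mk_zero]
    · intro i hi
      have hWle : W ≤ U (i + 1) := by
        have hmono : ∀ j, j ≤ i → U 1 ≤ U (j + 1) := fun j => by
          induction j with
          | zero => exact fun _ => le_rfl
          | succ j ihj => exact fun hj => (ihj (by omega)).trans (hU (j + 1) (by omega)).le
        exact hWT.trans ((hTr (by omega)).le.trans (hmono i le_rfl))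
      have hlt := hU (i + 1) (by omega)
      refine lt_of_le_of_ne (AddSubgroup.map_mono hlt.le) fun e => hlt.ne ?_
      have e' := congrArg (AddSubgroup.comap (QuotientAddGroup.mk' W)) e
      rwa [AddSubgroup.comap_map_eq, AddSubgroup.comap_map_eq, QuotientAddGroup.ker_mk',
        sup_eq_left.mpr hWle, sup_eq_left.mpr (hWle.trans hlt.le)] at e'
    · rintro i k y ⟨x, hx, rfl⟩
      exact ⟨ρ k x, hUinv _ _ x hx, rfl⟩
  rw [ppart_eq_mul (p := p) K, hcardV, Subgroup.index]
  calc p ^ r * (ppart p K * ppart p (X ⧸ K))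
      ≤ p ^ (r - 1 + 1) * (ppart p K * ppart p (X ⧸ K)) :=
        Nat.mul_le_mul_right _ (Nat.pow_le_pow_right hp.out.pos (by omega))
    _ = (p * ppart p (X ⧸ K)) * (p ^ (r - 1) * ppart p K) := by ring
    _ ≤ _ := Nat.mul_le_mul h1 h2

theorem factorization_factorial_lt (hp : p.Prime) {r : ℕ} (hr : r ≠ 0) :
    (r.factorial).factorization p < r := by
  haveI := Fact.mk hp
  have h := sub_one_mul_padicValNat_factorial_lt_of_ne_zero (p := p) hr
  rw [Nat.factorization_def _ hp]
  exact lt_of_le_of_lt (Nat.le_mul_of_pos_left _ (by have := hp.two_le; omega)) h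

/-- The imprimitive case: a non-trivial idempotent in a commutative ring normalized by the group. -/
theorem idempotent_case [Finite X] [Finite V] (hsolv : Group.IsSolvable X) (hfree : PFree p X)
    (hV : ∀ x : V, p • x = 0) (IH : SmallerBound.{u, v} p (Nat.card V))
    (ρ : X →* AddMonoid.End V) (hρ : Function.Injective ρ)
    (hirr : ∀ W : AddSubgroup V, (∀ g, ∀ x ∈ W, ρ g x ∈ W) → W = ⊥ ∨ W = ⊤)
    (R : Subring (AddMonoid.End V)) (hcomm : ∀ a ∈ R, ∀ b ∈ R, a * b = b * a)
    (hnorm : ∀ g, ∀ a ∈ R, ρ g * a * ρ g⁻¹ ∈ R) {e₀ : AddMonoid.End V} (he₀ : e₀ ∈ R)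
    (hidem₀ : e₀ * e₀ = e₀) (h0 : e₀ ≠ 0) (h1 : e₀ ≠ 1) : p * ppart p X ≤ Nat.card V := by
  classical
  haveI : Fintype X := Fintype.ofFinite X
  haveI : Finite (AddMonoid.End V) :=
    Finite.of_injective (fun f => (f : V → V)) DFunLike.coe_injective
  obtain ⟨e, ⟨he, hidem, hne⟩, hmin⟩ := Set.exists_min_image
    {f | f ∈ R ∧ f * f = f ∧ f ≠ 0} (fun f => Nat.card (AddMonoidHom.range f)) (Set.toFinite _)
    ⟨e₀, he₀, hidem₀, h0⟩
  have rangeTop : ∀ f : AddMonoid.End V, f * f = f → AddMonoidHom.range f = ⊤ → f = 1 :=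
    fun f hf ht => DFunLike.ext _ _ fun x => fix_range hf (ht ▸ AddSubgroup.mem_top x)
  have he1 : e ≠ 1 := by
    rintro rfl
    refine h1 (rangeTop e₀ hidem₀ (AddSubgroup.eq_top_of_le_card _ ?_))
    have := hmin e₀ ⟨he₀, hidem₀, h0⟩
    refine le_trans ?_ this
    exact (Nat.card_congr (Equiv.ofBijective (fun x : V => (⟨x, x, rfl⟩ :
      AddMonoidHom.range (1 : AddMonoid.End V)))
      ⟨fun a b hab => congrArg Subtype.val hab, fun y => ⟨y, rfl⟩⟩)).le
  have hprim : ∀ f ∈ R, f * f = f → e * f = 0 ∨ e * f = e := by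
    intro f hf hff
    refine or_iff_not_imp_left.mpr fun hef => ?_
    have hmul : e * f * (e * f) = e * f := by
      rw [← mul_assoc, mul_assoc e f e, ← hcomm e he f hf, ← mul_assoc e e f, hidem, mul_assoc, hff]
    have hle : AddMonoidHom.range (e * f) ≤ AddMonoidHom.range e := by
      rintro x ⟨y, rfl⟩; exact ⟨f y, rfl⟩
    have heq := AddSubgroup.eq_of_le_of_card_ge hle (hmin _ ⟨R.mul_mem he hf, hmul, hef⟩)
    have : e * f * e = e := DFunLike.ext _ _ fun x => fix_range hmul (heq ▸ ⟨x, rfl⟩)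
    rwa [mul_assoc, ← hcomm e he f hf, ← mul_assoc, hidem] at this
  let c : X → AddMonoid.End V → AddMonoid.End V := fun g a => ρ g * a * ρ g⁻¹
  have c_mul : ∀ g a b, c g (a * b) = c g a * c g b := fun g a b => by
    simp only [c]
    rw [show ρ g * a * ρ g⁻¹ * (ρ g * b * ρ g⁻¹) = ρ g * a * (ρ g⁻¹ * ρ g) * b * ρ g⁻¹ by
      simp only [mul_assoc], rho_inv_mul, mul_one]
    simp only [mul_assoc]
  have c_one : ∀ a, c 1 a = a := fun a => by simp [c]
  have c_comp : ∀ g h a, c (g * h) a = c g (c h a) := fun g h a => by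
    simp only [c, map_mul, mul_inv_rev, mul_assoc]
  have c_zero : ∀ g, c g 0 = 0 := fun g => by simp [c]
  set Ω := (Finset.univ : Finset X).image (fun g => c g e) with hΩ
  have hmemΩ : ∀ {a}, a ∈ Ω ↔ ∃ g, c g e = a := by simp [hΩ]
  have hΩR : ∀ a ∈ Ω, a ∈ R := fun a ha => by
    obtain ⟨g, rfl⟩ := hmemΩ.mp ha; exact hnorm g e he
  have hΩid : ∀ a ∈ Ω, a * a = a := fun a ha => by
    obtain ⟨g, rfl⟩ := hmemΩ.mp ha; rw [← c_mul, hidem]
  have hΩne : ∀ a ∈ Ω, a ≠ 0 := fun a ha h => by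
    obtain ⟨g, rfl⟩ := hmemΩ.mp ha
    apply hne
    have := congrArg (c g⁻¹) h
    rwa [← c_comp, inv_mul_cancel, c_one, c_zero] at this
  have hΩprim : ∀ a ∈ Ω, ∀ f ∈ R, f * f = f → a * f = 0 ∨ a * f = a := by
    intro a ha f hf hff
    obtain ⟨g, rfl⟩ := hmemΩ.mp ha
    have h2 : c g (c g⁻¹ f) = f := by rw [← c_comp, mul_inv_cancel, c_one]
    rcases hprim (c g⁻¹ f) (hnorm _ f hf) (by rw [← c_mul, hff]) with h | h
    · left; rw [← h2, ← c_mul, h, c_zero]
    · right; rw [← h2, ← c_mul, h]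
  have horth : ∀ a ∈ Ω, ∀ b ∈ Ω, a ≠ b → a * b = 0 := by
    intro a ha b hb hab
    refine (hΩprim a ha b (hΩR b hb) (hΩid b hb)).resolve_right fun h => ?_
    rcases hΩprim b hb a (hΩR a ha) (hΩid a ha) with h' | h'
    · rw [← hcomm a (hΩR a ha) b (hΩR b hb), h] at h'
      exact hΩne a ha h'
    · rw [← hcomm a (hΩR a ha) b (hΩR b hb), h] at h'
      exact hab h'
  have hperm : ∀ g, ∀ a ∈ Ω, c g a ∈ Ω := fun g a ha => by
    obtain ⟨h, rfl⟩ := hmemΩ.mp ha
    exact hmemΩ.mpr ⟨g * h, c_comp g h e⟩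
  have heΩ : e ∈ Ω := hmemΩ.mpr ⟨1, c_one e⟩
  -- the sum of the orbit is the identity
  have hsum : ∑ a ∈ Ω, a = 1 := by
    set t := ∑ a ∈ Ω, a with ht
    have htid : t * t = t := by
      rw [ht, Finset.sum_mul]
      refine Finset.sum_congr rfl fun a ha => ?_
      rw [Finset.mul_sum, Finset.sum_eq_single a (fun b hb hba => horth a ha b hb hba.symm)
        (fun h => absurd ha h), hΩid a ha]
    have hfix : ∀ g, ρ g * t = t * ρ g := by
      intro g
      have hct : c g t = t := by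
        show ρ g * (∑ a ∈ Ω, a) * ρ g⁻¹ = _
        rw [Finset.mul_sum, Finset.sum_mul]
        exact Finset.sum_nbij' (fun a => c g a) (fun a => c g⁻¹ a) (fun a => hperm g a)
          (fun a => hperm g⁻¹ a) (fun a _ => by rw [← c_comp, inv_mul_cancel, c_one])
          (fun a _ => by rw [← c_comp, mul_inv_cancel, c_one]) (fun a _ => rfl)
      conv_rhs => rw [← hct]
      show ρ g * t = ρ g * t * ρ g⁻¹ * ρ g
      rw [mul_assoc _ (ρ g⁻¹), rho_inv_mul, mul_one]
    refine rangeTop t htid ((hirr _ fun g x hx => ?_).resolve_left fun h => ?_)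
    · obtain ⟨y, rfl⟩ := hx
      exact ⟨ρ g y, (congrArg (fun k : AddMonoid.End V => k y) (hfix g)).symm⟩
    · apply hne
      have hte : t * e = e := by
        rw [ht, Finset.sum_mul, Finset.sum_eq_single e (fun b hb hbe => horth b hb e heΩ hbe)
          (fun h => absurd heΩ h), hidem]
      rw [← hte]
      refine DFunLike.ext _ _ fun x => ?_
      have : t (e x) ∈ (⊥ : AddSubgroup V) := h ▸ ⟨e x, rfl⟩
      exact AddSubgroup.mem_bot.mp this
  have hr : 2 ≤ Ω.card := by
    by_contra h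
    have hc : Ω.card = 1 := by have := Finset.card_pos.mpr ⟨e, heΩ⟩; omega
    obtain ⟨a, ha⟩ := Finset.card_eq_one.mp hc
    rw [ha, Finset.sum_singleton] at hsum
    rw [ha, Finset.mem_singleton] at heΩ
    exact he1 (heΩ.trans hsum)
  -- the kernel of the permutation action
  letI : MulAction X Ω :=
    { smul := fun g a => ⟨c g a, hperm g a a.2⟩
      one_smul := fun a => Subtype.ext (c_one _)
      mul_smul := fun g h a => Subtype.ext (c_comp g h _) }
  set K := (MulAction.toPermHom X Ω).ker with hK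
  have hKc : ∀ k : K, ∀ a ∈ Ω, ρ k * a = a * ρ k := by
    intro k a ha
    have h : c k a = a := congrArg Subtype.val
      (congrArg (fun f : Equiv.Perm Ω => f ⟨a, ha⟩) (MonoidHom.mem_ker.mp k.2))
    conv_rhs => rw [← h]
    show ρ k * a = ρ k * a * ρ (k : X)⁻¹ * ρ k
    rw [mul_assoc _ (ρ (k : X)⁻¹), rho_inv_mul, mul_one]
  set r := Ω.card with hrdef
  let f : Fin r → AddMonoid.End V := fun j => (Ω.equivFin.symm j).1
  have hfinj : Function.Injective f := Subtype.val_injective.comp Ω.equivFin.symm.injective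
  let U : ℕ → AddSubgroup V := fun i => ⨅ (j : Fin r) (_ : i ≤ (j : ℕ)), AddMonoidHom.ker (f j)
  have hUmem : ∀ {i x}, x ∈ U i ↔ ∀ j : Fin r, i ≤ (j : ℕ) → f j x = 0 := fun {i x} => by
    simp only [U, AddSubgroup.mem_iInf]; exact Iff.rfl
  have hUlt : ∀ i < r, U i < U (i + 1) := by
    intro i hi
    refine lt_of_le_not_ge (fun x hx => hUmem.mpr fun j hj => hUmem.mp hx j (by omega)) fun hge => ?_
    obtain ⟨x, hx⟩ : ∃ x, f ⟨i, hi⟩ x ≠ 0 := by
      by_contra h
      push Not at h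
      exact hΩne _ (Ω.equivFin.symm ⟨i, hi⟩).2 (DFunLike.ext _ _ h)
    have hmem : f ⟨i, hi⟩ x ∈ U (i + 1) := hUmem.mpr fun j hj => by
      rw [← end_mul_apply, horth _ (Ω.equivFin.symm j).2 _ (Ω.equivFin.symm ⟨i, hi⟩).2 fun h => by
        have := congrArg Fin.val (hfinj h)
        simp only at this
        omega]
      rfl
    have := hUmem.mp (hge hmem) ⟨i, hi⟩ le_rfl
    rw [← end_mul_apply, hΩid _ (Ω.equivFin.symm ⟨i, hi⟩).2] at this
    exact hx this
  have hUinv : ∀ i (k : K), ∀ x ∈ U i, ρ k x ∈ U i := fun i k x hx => hUmem.mpr fun j hj => by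
    rw [← end_mul_apply, ← hKc k _ (Ω.equivFin.symm j).2, end_mul_apply, hUmem.mp hx j hj, map_zero]
  have hmain : p ^ r * ppart p K ≤ Nat.card V := by
    haveI : Group.IsSolvable K := inferInstance
    refine chain_step (X := K) inferInstance (pfree_of_normal hfree K) hV IH (ρ.comp K.subtype)
      (hρ.comp Subtype.val_injective) (W₀ := AddMonoidHom.range e) ?_ ?_ ?_ r U hUlt hUinv
    · rintro k x ⟨y, rfl⟩
      exact ⟨ρ k y, (congrArg (fun g : AddMonoid.End V => g y) (hKc k e heΩ)).symm⟩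
    · intro h
      exact hne (DFunLike.ext _ _ fun x => AddSubgroup.mem_bot.mp (h ▸ ⟨x, rfl⟩))
    · exact fun h => he1 (rangeTop e hidem h)
  have hidx : p ^ K.index.factorization p ≤ p ^ (r - 1) := by
    refine Nat.pow_le_pow_right hp.out.pos ?_
    have hd : K.index ∣ r.factorial := by
      rw [hK, Subgroup.index_ker]
      have := Subgroup.card_subgroup_dvd_card (MulAction.toPermHom X Ω).range
      rwa [Nat.card_perm, Nat.card_eq_finsetCard] at this
    have h1 := (Nat.factorization_le_iff_dvd K.index_ne_zero_of_finite r.factorial_ne_zero).mpr hd p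
    have h2 := factorization_factorial_lt hp.out (show r ≠ 0 by omega)
    omega
  rw [ppart_eq_mul (p := p) K]
  calc p * (ppart p K * p ^ K.index.factorization p)
      ≤ p * (ppart p K * p ^ (r - 1)) := by gcongr
    _ = p ^ (r - 1 + 1) * ppart p K := by ring
    _ = p ^ r * ppart p K := by rw [Nat.sub_add_cancel (by omega)]
    _ ≤ _ := hmain

theorem ppart_le (n : ℕ) (hn : n ≠ 0) : p ^ n.factorization p ≤ n :=
  Nat.ordProj_le p hn

theorem mul_le_pow (d : ℕ) (hd : 1 ≤ d) : p * d ≤ p ^ d := by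
  obtain ⟨e, rfl⟩ : ∃ e, d = e + 1 := ⟨d - 1, by omega⟩
  rw [pow_succ, mul_comm]
  exact Nat.mul_le_mul_right p (Nat.lt_pow_self hp.out.one_lt)

/-- The bound from the trivial chain. -/
theorem ChainBound.one [Nontrivial V] (h : ChainBound p X V) (ρ : X →* AddMonoid.End V)
    (hρ : Function.Injective ρ) : p * ppart p X ≤ Nat.card V := by
  have := h ρ hρ 1 (fun i => if i = 0 then ⊥ else ⊤)
    (fun i hi => by obtain rfl : i = 0 := by omega
                    simp)
    (fun i g x hx => by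
      by_cases h : i = 0
      · simp only [h, if_true] at hx ⊢
        rw [AddSubgroup.mem_bot.mp hx, map_zero]; exact zero_mem _
      · simp [h])
  rwa [pow_one] at this

theorem not_dvd_card_of_abelian [Finite X] (hfree : PFree p X) (A : Subgroup X) [hAn : A.Normal]
    (hAab : ∀ a ∈ A, ∀ b ∈ A, a * b = b * a) : ¬ p ∣ Nat.card A := by
  intro hdvd
  obtain ⟨a, ha⟩ := exists_prime_orderOf_dvd_card' p hdvd
  let T : Subgroup X :=
    { carrier := {x | x ∈ A ∧ x ^ p = 1}
      one_mem' := ⟨A.one_mem, one_pow p⟩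
      mul_mem' := fun {x y} hx hy => ⟨A.mul_mem hx.1 hy.1, by
        rw [Commute.mul_pow (hAab x hx.1 y hy.1), hx.2, hy.2, one_mul]⟩
      inv_mem' := fun {x} hx => ⟨A.inv_mem hx.1, by rw [inv_pow, hx.2, inv_one]⟩ }
  have hTn : T.Normal := ⟨fun x hx g => ⟨hAn.conj_mem x hx.1 g, by rw [conj_pow, hx.2]; group⟩⟩
  have hTp : IsPGroup p T := fun x => ⟨1, Subtype.ext (by rw [pow_one]; exact x.2.2)⟩
  have hbot := eq_bot_of_pfree hfree hTn hTp
  have hmem : (a : X) ∈ T :=
    ⟨a.2, by rw [← SubmonoidClass.coe_pow, ← ha, pow_orderOf_eq_one]; rfl⟩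
  rw [hbot, Subgroup.mem_bot, OneMemClass.coe_eq_one] at hmem
  rw [hmem, orderOf_one] at ha
  exact hp.out.ne_one ha.symm

theorem comm_mul_left {G : Type*} [Group G] {x₁ x₂ y z₁ z₂ : G} (h₁ : x₁ * y = z₁ * (y * x₁))
    (h₂ : x₂ * y = z₂ * (y * x₂)) (hc : x₁ * z₂ = z₂ * x₁) :
    x₁ * x₂ * y = z₂ * z₁ * (y * (x₁ * x₂)) := by
  calc x₁ * x₂ * y = x₁ * (x₂ * y) := mul_assoc _ _ _
    _ = (x₁ * z₂) * (y * x₂) := by rw [h₂]; simp only [mul_assoc]
    _ = z₂ * ((x₁ * y) * x₂) := by rw [hc]; simp only [mul_assoc]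
    _ = _ := by rw [h₁]; simp only [mul_assoc]

theorem comm_pow_left {G : Type*} [Group G] {x y z : G} (h : x * y = z * (y * x))
    (hc : x * z = z * x) : ∀ n : ℕ, x ^ n * y = z ^ n * (y * x ^ n) := by
  intro n
  induction n with
  | zero => simp
  | succ n ih =>
    rw [pow_succ' x, pow_succ z]
    exact comm_mul_left h ih (Commute.pow_right hc n)

/-- The primitive case. -/
theorem field_case [Finite X] [Finite V] [Nontrivial V] (hsolv : Group.IsSolvable X)
    (hfree : PFree p X) (hV : ∀ x : V, p • x = 0) (IH : SmallerBound.{u, v} p (Nat.card V))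
    (ρ : X →* AddMonoid.End V) (hρ : Function.Injective ρ)
    {F : Type v} [Field F] [Finite F] (σ : F →+* AddMonoid.End V)
    (A : Subgroup X) [hAn : A.Normal] (hAab : ∀ a ∈ A, ∀ b ∈ A, a * b = b * a)
    (hmax : ∀ B : Subgroup X, B.Normal → (∀ a ∈ B, ∀ b ∈ B, a * b = b * a) → A ≤ B → B = A)
    (hA : ∀ a ∈ A, ∃ r, σ r = ρ a)
    (hgen : ∀ f : AddMonoid.End V, (∀ a ∈ A, Commute f (ρ a)) → ∀ r, Commute f (σ r))
    (hnorm : ∀ g r, ∃ r', σ r' = ρ g * σ r * ρ g⁻¹) : p * ppart p X ≤ Nat.card V := by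
  classical
  haveI : Nontrivial (AddMonoid.End V) := ⟨⟨1, 0, fun h => by
    obtain ⟨x, hx⟩ := exists_ne (0 : V)
    exact hx (congrArg (fun k : AddMonoid.End V => k x) h)⟩⟩
  have hσ : Function.Injective σ := σ.injective
  have hp0 : ((p : ℕ) : F) = 0 := hσ (by
    rw [map_natCast, map_zero]
    exact DFunLike.ext _ _ fun x => (AddMonoid.End.natCast_apply p x).trans (hV x))
  haveI : CharP F p := (CharP.charP_iff_prime_eq_zero hp.out).mpr hp0
  letI : Algebra (ZMod p) F := ZMod.algebra F p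
  set d := Module.finrank (ZMod p) F with hd
  have hd1 : 1 ≤ d := Module.finrank_pos
  have hcardF : Nat.card F = p ^ d := by rw [Module.natCard_eq_pow_finrank (K := ZMod p), Nat.card_zmod]
  have hFle : ∀ U : AddSubgroup V, U ≠ ⊥ → (∀ r, ∀ u ∈ U, σ r u ∈ U) → p ^ d ≤ Nat.card U := by
    intro U hU hst
    obtain ⟨u, hu, hu0⟩ := U.bot_or_exists_ne_zero.resolve_left hU
    rw [← hcardF]
    refine Nat.card_le_card_of_injective (fun r => (⟨σ r u, hst r u hu⟩ : U)) fun a b hab => ?_
    by_contra hne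
    have h : σ (a - b) u = 0 := by
      rw [map_sub]; exact sub_eq_zero.mpr (congrArg Subtype.val hab)
    apply hu0
    have := congrArg (fun x => σ (a - b)⁻¹ x) h
    simp only [map_zero] at this
    rwa [← end_mul_apply, ← map_mul, inv_mul_cancel₀ (sub_ne_zero.mpr hne), map_one] at this
  set X₀ := Subgroup.centralizer (A : Set X) with hX₀
  haveI : X₀.Normal := Subgroup.normal_centralizer
  have hX₀A : ∀ g ∈ X₀, ∀ a ∈ A, a * g = g * a := fun g hg a ha => Subgroup.mem_centralizer_iff.mp hg a ha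
  have hX₀σ : ∀ g ∈ X₀, ∀ r, Commute (ρ g) (σ r) := fun g hg => hgen _ fun a ha => by
    rw [Commute, SemiconjBy, ← map_mul, ← map_mul, hX₀A g hg a ha]
  have hAX₀ : A ≤ X₀ := fun a ha => Subgroup.mem_centralizer_iff.mpr fun b hb => hAab b hb a ha
  -- the index of the centralizer
  have hidx : X₀.index ≤ d := by
    choose α hα using hnorm
    have αmul : ∀ g a b, α g (a * b) = α g a * α g b := fun g a b => hσ (by
      rw [map_mul, hα, hα, hα, map_mul, show ρ g * σ a * ρ g⁻¹ * (ρ g * σ b * ρ g⁻¹) =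
        ρ g * σ a * (ρ g⁻¹ * ρ g) * σ b * ρ g⁻¹ by simp only [mul_assoc], rho_inv_mul, mul_one]
      simp only [mul_assoc])
    have αadd : ∀ g a b, α g (a + b) = α g a + α g b := fun g a b => hσ (by
      rw [map_add, hα, hα, hα, map_add, mul_add, add_mul])
    have αone : ∀ g, α g 1 = 1 := fun g => hσ (by
      rw [hα, map_one, mul_one, ← map_mul, mul_inv_cancel, map_one])
    let αh : X → F →+* F := fun g => RingHom.mk' ⟨⟨α g, αone g⟩, αmul g⟩ (αadd g)
    let αa : X → (F ≃ₐ[ZMod p] F) := fun g =>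
      AlgEquiv.ofRingEquiv (f := RingEquiv.ofBijective (αh g)
        ⟨(αh g).injective, Finite.surjective_of_injective (αh g).injective⟩)
        (fun x => RingHom.congr_fun
          (RingHom.ext_zmod ((αh g).comp (algebraMap (ZMod p) F)) (algebraMap (ZMod p) F)) x)
    have hinj : Function.Injective fun q : X ⧸ X₀ => αa q.out := by
      intro g h hgh
      have hmem : h.out⁻¹ * g.out ∈ X₀ := Subgroup.mem_centralizer_iff.mpr fun a ha => by
        obtain ⟨r, hr⟩ := hA a ha
        have h1 : σ (α g.out r) = σ (α h.out r) := congrArg σ (congrArg (fun e : F ≃ₐ[ZMod p] F => e r) hgh)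
        rw [hα, hα, hr] at h1
        simp only [← map_mul] at h1
        have h2 := hρ h1
        calc a * (h.out⁻¹ * g.out) = h.out⁻¹ * (h.out * a * h.out⁻¹) * g.out := by group
          _ = h.out⁻¹ * (g.out * a * g.out⁻¹) * g.out := by rw [h2]
          _ = h.out⁻¹ * g.out * a := by group
      rw [← QuotientGroup.out_eq' g, ← QuotientGroup.out_eq' h, eq_comm, QuotientGroup.eq]
      exact hmem
    calc X₀.index = Nat.card (X ⧸ X₀) := rfl
      _ ≤ Nat.card (F ≃ₐ[ZMod p] F) := Nat.card_le_card_of_injective _ hinj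
      _ ≤ d := by rw [Nat.card_eq_fintype_card]
                  exact (AlgEquiv.card_le : Fintype.card (F ≃ₐ[ZMod p] F) ≤ Module.finrank (ZMod p) F)
  have hS : ppart p X ≤ ppart p X₀ * d := by
    rw [ppart_eq_mul (p := p) X₀]
    exact Nat.mul_le_mul_left _ ((ppart_le _ X₀.index_ne_zero_of_finite).trans hidx)
  have hpA : ¬ p ∣ Nat.card A := not_dvd_card_of_abelian hfree A hAab
  by_cases hXA : X₀ ≤ A
  · rw [le_antisymm hXA hAX₀] at hS
    rw [ppart_eq_one hpA, one_mul] at hS
    calc p * ppart p X ≤ p * d := Nat.mul_le_mul_left p hS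
      _ ≤ p ^ d := mul_le_pow d hd1
      _ ≤ Nat.card (⊤ : AddSubgroup V) := hFle ⊤ top_ne_bot fun _ _ _ => trivial
      _ = Nat.card V := Nat.card_congr AddSubgroup.topEquiv.toEquiv
  -- an elementary abelian normal factor above `A`
  obtain ⟨B, q, hq, hBn, hAB, hBX, hBne, hBq, hBcomm⟩ : ∃ (B : Subgroup X) (q : ℕ), q.Prime ∧
      B.Normal ∧ A ≤ B ∧ B ≤ X₀ ∧ B ≠ A ∧ (∀ x ∈ B, x ^ q ∈ A) ∧
      (∀ x ∈ B, ∀ y ∈ B, x * y * x⁻¹ * y⁻¹ ∈ A) := by
    set f := QuotientGroup.mk' A with hf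
    have hsurj : Function.Surjective f := QuotientGroup.mk'_surjective A
    haveI : (X₀.map f).Normal := (inferInstance : X₀.Normal).map f hsurj
    haveI : Finite (Subgroup (X ⧸ A)) :=
      Finite.of_injective (fun H => (H : Set (X ⧸ A))) SetLike.coe_injective
    have hne : X₀.map f ≠ ⊥ := by
      rw [Ne, Subgroup.map_eq_bot_iff, hf, QuotientGroup.ker_mk']; exact hXA
    obtain ⟨N, ⟨hN, hNb, hNle⟩, hNmin⟩ := (Set.toFinite {N : Subgroup (X ⧸ A) |
      N.Normal ∧ N ≠ ⊥ ∧ N ≤ X₀.map f}).exists_minimal ⟨X₀.map f, inferInstance, hne, le_rfl⟩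
    haveI := hN
    haveI : Group.IsSolvable (X ⧸ A) := inferInstance
    have hNab : ⁅N, N⁆ = ⊥ := by
      by_contra h
      exact (Group.IsSolvable.commutator_lt_of_ne_bot hNb).not_ge
        (hNmin ⟨Subgroup.commutator_normal N N, h, (Subgroup.commutator_le_left N N).trans hNle⟩
          (Subgroup.commutator_le_left N N))
    have hNc : ∀ x ∈ N, ∀ y ∈ N, x * y * x⁻¹ * y⁻¹ = 1 := fun x hx y hy => by
      have := Subgroup.commutator_mem_commutator hx hy
      rwa [hNab, Subgroup.mem_bot, commutatorElement_def] at this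
    obtain ⟨q, hq, hqd⟩ := Nat.exists_prime_and_dvd (fun h => hNb (Subgroup.eq_bot_of_card_eq N h))
    haveI := Fact.mk hq
    obtain ⟨t, ht⟩ := exists_prime_orderOf_dvd_card' q hqd
    have hcom : ∀ x ∈ N, ∀ y ∈ N, Commute x y := fun x hx y hy =>
      mul_inv_eq_iff_eq_mul.mp (mul_inv_eq_one.mp (hNc x hx y hy))
    let T : Subgroup (X ⧸ A) :=
      { carrier := {x | x ∈ N ∧ x ^ q = 1}
        one_mem' := ⟨N.one_mem, one_pow q⟩
        mul_mem' := fun {x y} hx hy => ⟨N.mul_mem hx.1 hy.1, by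
          rw [(hcom x hx.1 y hy.1).mul_pow, hx.2, hy.2, one_mul]⟩
        inv_mem' := fun {x} hx => ⟨N.inv_mem hx.1, by rw [inv_pow, hx.2, inv_one]⟩ }
    haveI hTn : T.Normal := ⟨fun x hx g => ⟨hN.conj_mem x hx.1 g, by rw [conj_pow, hx.2]; group⟩⟩
    refine ⟨T.comap f, q, hq, inferInstance, fun a ha => ?_, fun x hx => ?_, fun h => ?_,
      fun x hx => ?_, fun x hx y hy => ?_⟩
    · rw [Subgroup.mem_comap, hf, QuotientGroup.mk'_apply, (QuotientGroup.eq_one_iff a).mpr ha]
      exact one_mem _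
    · have : f x ∈ X₀.map f := hNle hx.1
      rw [← Subgroup.mem_comap, Subgroup.comap_map_eq, hf, QuotientGroup.ker_mk',
        sup_eq_left.mpr hAX₀] at this
      exact this
    · obtain ⟨x, hx⟩ := hsurj t
      have hxT : x ∈ T.comap f := by
        rw [Subgroup.mem_comap, hx]
        exact ⟨t.2, by rw [← SubmonoidClass.coe_pow, ← ht, pow_orderOf_eq_one]; rfl⟩
      rw [h] at hxT
      have h1 : t = 1 := Subtype.ext (hx.symm.trans ((QuotientGroup.eq_one_iff x).mpr hxT))
      rw [h1, orderOf_one] at ht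
      exact hq.ne_one ht.symm
    · rw [← QuotientGroup.eq_one_iff]
      have : (f x) ^ q = 1 := hx.2
      rwa [← map_pow] at this
    · rw [← QuotientGroup.eq_one_iff]
      have := hNc _ hx.1 _ hy.1
      simp only [← map_inv, ← map_mul] at this
      exact this
  haveI := hBn
  haveI := Fact.mk hq
  have hcen : ∀ x ∈ B, ∀ a ∈ A, x * a = a * x := fun x hx a ha => (hX₀A x (hBX hx) a ha).symm
  have hz : ∀ x y : X, x * y = x * y * x⁻¹ * y⁻¹ * (y * x) := fun x y => by group
  have hzq : ∀ x ∈ B, ∀ y ∈ B, (x * y * x⁻¹ * y⁻¹) ^ q = 1 := by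
    intro x hx y hy
    have h := comm_pow_left (hz x y) (hcen x hx _ (hBcomm x hx y hy)) q
    rw [← hcen y hy _ (hBq x hx)] at h
    exact mul_right_cancel (h.symm.trans (one_mul _).symm)
  obtain ⟨x₁, hx₁, y₁, hy₁, hxy⟩ : ∃ x ∈ B, ∃ y ∈ B, x * y * x⁻¹ * y⁻¹ ≠ 1 := by
    by_contra h
    push Not at h
    exact hBne (hmax B hBn
      (fun a ha b hb => mul_inv_eq_iff_eq_mul.mp (mul_inv_eq_one.mp (h a ha b hb))) hAB)
  obtain ⟨ζ, hζ'⟩ := hA _ (hBcomm x₁ hx₁ y₁ hy₁)
  have hqp : q ≠ p := by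
    rintro rfl
    have h1 : orderOf (x₁ * y₁ * x₁⁻¹ * y₁⁻¹) = q := orderOf_eq_prime (hzq x₁ hx₁ y₁ hy₁) hxy
    exact hpA (h1 ▸ A.orderOf_dvd_natCard (hBcomm x₁ hx₁ y₁ hy₁))
  have hqF : (q : F) ≠ 0 := fun h => hqp
    ((Nat.prime_dvd_prime_iff_eq hp.out hq).mp ((CharP.cast_eq_zero_iff F p q).mp h)).symm
  have hζ : IsPrimitiveRoot ζ q := by
    have h1 : ζ ^ q = 1 := hσ (by rw [map_pow, hζ', ← map_pow, hzq x₁ hx₁ y₁ hy₁, map_one, map_one])
    have h2 : ζ ≠ 1 := fun h => hxy (hρ (by rw [map_one, ← hζ', h, map_one]))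
    rw [← orderOf_eq_prime h1 h2]
    exact IsPrimitiveRoot.orderOf ζ
  have hqd : q ∣ p ^ d - 1 := by
    have h1 : ζ ^ (p ^ d - 1) = 1 := by
      haveI : Fintype F := Fintype.ofFinite F
      rw [← hcardF, Nat.card_eq_fintype_card]
      exact FiniteField.pow_card_sub_one_eq_one ζ (hζ.ne_zero hq.ne_zero)
    exact (hζ.pow_eq_one_iff_dvd _).mp h1
  -- the commutator form
  have hJ0 : ∀ x y : B, ∃ i : ZMod q, σ (ζ ^ i.val) = ρ ((x : X) * y * (x : X)⁻¹ * (y : X)⁻¹) := by
    intro x y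
    obtain ⟨r, hr⟩ := hA _ (hBcomm x x.2 y y.2)
    obtain ⟨i, hi, hi'⟩ := hζ.eq_pow_of_pow_eq_one (ξ := r) (hσ (by
      rw [map_pow, hr, ← map_pow, hzq x x.2 y y.2, map_one, map_one]))
    exact ⟨i, by rw [ZMod.val_natCast_of_lt hi, hi', hr]⟩
  choose J hJ using hJ0
  have hJinj : ∀ i j : ZMod q, σ (ζ ^ i.val) = σ (ζ ^ j.val) → i = j := fun i j h =>
    ZMod.val_injective q (hζ.pow_inj (ZMod.val_lt i) (ZMod.val_lt j) (hσ h))
  have hζadd : ∀ i j : ZMod q, ζ ^ (i + j).val = ζ ^ i.val * ζ ^ j.val := fun i j => by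
    rw [← pow_add, ZMod.val_add, ← pow_eq_pow_mod _ hζ.pow_eq_one]
  have hJeq : ∀ x y : B, ρ x * ρ y = σ (ζ ^ (J x y).val) * (ρ y * ρ x) := fun x y => by
    rw [hJ, ← map_mul, ← map_mul, ← map_mul, ← hz]
  have hJuniq : ∀ (x y : B) (i : ZMod q), ρ x * ρ y = σ (ζ ^ i.val) * (ρ y * ρ x) → J x y = i := by
    intro x y i h
    refine hJinj _ _ ?_
    have h1 := congrArg (· * ρ ((y : X) * x)⁻¹) ((hJeq x y).symm.trans h)
    simp only [mul_assoc] at h1
    rwa [← map_mul, ← map_mul, ← mul_assoc (y : X), mul_inv_cancel, map_one,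
      mul_one, mul_one] at h1
  have hJleft : ∀ x₁ x₂ y : B, J (x₁ * x₂) y = J x₁ y + J x₂ y := fun x₁ x₂ y => hJuniq _ _ _ (by
    rw [hζadd, map_mul σ, hJ, hJ, Subgroup.coe_mul, ← map_mul ρ, ← map_mul ρ, ← map_mul ρ,
      ← map_mul ρ]
    congr 1
    rw [comm_mul_left (hz (x₁ : X) y) (hz (x₂ : X) y) (hcen _ x₁.2 _ (hBcomm _ x₂.2 _ y.2)),
      hAab _ (hBcomm _ x₂.2 _ y.2) _ (hBcomm _ x₁.2 _ y.2)])
  have hJdiag : ∀ x : B, J x x = 0 := fun x => hJuniq _ _ _ (by
    rw [ZMod.val_zero, pow_zero, map_one, one_mul])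
  have hJanti : ∀ x y : B, J y x = - J x y := fun x y => hJuniq _ _ _ (by
    rw [hJeq x y, ← mul_assoc, ← map_mul σ, ← hζadd, neg_add_cancel, ZMod.val_zero, pow_zero,
      map_one, one_mul])
  have hJA : ∀ (a y : B), (a : X) ∈ A → J a y = 0 := fun a y ha => hJuniq _ _ _ (by
    rw [ZMod.val_zero, pow_zero, map_one, one_mul, ← map_mul, ← map_mul, hcen _ y.2 _ ha])
  -- the space
  set A' := A.subgroupOf B with hA'
  haveI : A'.Normal := inferInstance
  letI : CommGroup (B ⧸ A') :=
    { (inferInstance : Group (B ⧸ A')) with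
      mul_comm := fun a b => by
        obtain ⟨x, rfl⟩ := QuotientGroup.mk_surjective a
        obtain ⟨y, rfl⟩ := QuotientGroup.mk_surjective b
        rw [← QuotientGroup.mk_mul, ← QuotientGroup.mk_mul, QuotientGroup.eq, hA',
          Subgroup.mem_subgroupOf]
        have := hBcomm _ (B.inv_mem y.2) _ (B.inv_mem x.2)
        simpa [mul_assoc] using this }
  let W := Additive (B ⧸ A')
  have hJmk : ∀ x x' y : B, (QuotientGroup.mk x : B ⧸ A') = QuotientGroup.mk x' → J x y = J x' y := by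
    intro x x' y h
    rw [QuotientGroup.eq, hA', Subgroup.mem_subgroupOf] at h
    rw [show x' = x * (x⁻¹ * x') by group, hJleft, hJA (x⁻¹ * x') y h, add_zero]
  let lift : W → B := fun w => (Additive.toMul w).out
  have hlift : ∀ w, (QuotientGroup.mk (lift w) : B ⧸ A') = Additive.toMul w := fun w =>
    QuotientGroup.out_eq' _
  have hJr : ∀ x y y' : B, (QuotientGroup.mk y : B ⧸ A') = QuotientGroup.mk y' → J x y = J x y' :=
    fun x y y' h => by rw [hJanti y x, hJanti y' x, hJmk y y' x h]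
  have hcadd : ∀ (a b : W) (y : B), J (lift (a + b)) y = J (lift a) y + J (lift b) y := by
    intro a b y
    rw [← hJleft]
    refine hJmk _ _ _ ?_
    rw [hlift, QuotientGroup.mk_mul, hlift, hlift, toMul_add]
  let c : W →+ W →+ ZMod q := AddMonoidHom.mk'
    (fun a => AddMonoidHom.mk' (fun b => J (lift a) (lift b)) fun b b' => by
      rw [hJanti, hcadd, neg_add, ← hJanti, ← hJanti])
    fun a a' => AddMonoidHom.ext fun b => hcadd a a' (lift b)
  have halt : ∀ w, c w w = 0 := fun w => hJdiag _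
  -- the centre of `B` is `A`
  have hZ : ∀ x : B, (∀ y : B, J x y = 0) → (x : X) ∈ A := by
    intro x hx
    set Z := B ⊓ Subgroup.centralizer (B : Set X) with hZdef
    haveI : (Subgroup.centralizer (B : Set X)).Normal := Subgroup.normal_centralizer
    have hZA : Z = A := hmax Z (Subgroup.normal_inf_normal _ _)
      (fun a ha b hb => Subgroup.mem_centralizer_iff.mp hb.2 a ha.1)
      (le_inf hAB fun a ha => Subgroup.mem_centralizer_iff.mpr fun b hb => hcen b hb a ha)
    rw [← hZA]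
    refine ⟨x.2, Subgroup.mem_centralizer_iff.mpr fun y hy => ?_⟩
    apply hρ
    rw [map_mul, map_mul]
    have := hJeq x ⟨y, hy⟩
    rw [hx, ZMod.val_zero, pow_zero, map_one, one_mul] at this
    exact this.symm
  have hnd : ∀ w, (∀ x, c w x = 0) → w = 0 := by
    intro w hw
    have hmem : (lift w : X) ∈ A := hZ _ fun y => by
      rw [hJr _ y (lift (Additive.ofMul (QuotientGroup.mk y))) (hlift (Additive.ofMul (QuotientGroup.mk y : B ⧸ A'))).symm]
      exact hw _
    have := hlift w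
    rw [(QuotientGroup.eq_one_iff (lift w)).mpr (Subgroup.mem_subgroupOf.mpr hmem)] at this
    exact this.symm
  obtain ⟨s, hs⟩ := exists_card_eq (q := q) W c halt hnd
  have hs1 : 1 ≤ s := by
    by_contra h
    have h1 : Nat.card (B ⧸ A') = 1 := (hs.trans (by rw [show s = 0 by omega]) :)
    have h2 : A' = ⊤ := Subgroup.index_eq_one.mp h1
    rw [hA', Subgroup.subgroupOf_eq_top] at h2
    exact hBne (le_antisymm h2 hAB)
  let τ : W → AddMonoid.End V := fun w => ρ (lift w)
  obtain ⟨U, hUcard, hUst, hUg⟩ := exists_split_rec (V := V) (W := W) hζ hqF s σ c halt hnd hs τ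
    (fun r w => (hX₀σ _ (hBX (lift w).2) r).symm) (fun a b => hJeq _ _) (fun w => by
      obtain ⟨r, hr⟩ := hA _ (hBq _ (lift w).2)
      refine ⟨r, fun h0 => ?_, by rw [hr, ← map_pow]⟩
      rw [h0, map_zero] at hr
      have := congrArg (ρ ((lift w : X) ^ q)⁻¹ * ·) hr
      simp only [mul_zero, rho_inv_mul] at this
      exact zero_ne_one this)
  have hVQ : 2 ≤ q ^ s := le_trans hq.two_le (Nat.le_self_pow (by omega) q)
  have hUne : U ≠ ⊥ := by
    rintro rfl
    rw [AddSubgroup.card_bot, one_pow] at hUcard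
    exact (Finite.one_lt_card (α := V)).ne hUcard
  haveI : Nontrivial U := (AddSubgroup.nontrivial_iff_ne_bot U).mpr hUne
  have hUlt : Nat.card U < Nat.card V := by
    rw [← hUcard]; exact lt_self_pow₀ Finite.one_lt_card (by omega)
  -- the centralizer of `B`
  set C := X₀ ⊓ Subgroup.centralizer (B : Set X) with hC
  haveI : (Subgroup.centralizer (B : Set X)).Normal := Subgroup.normal_centralizer
  haveI : C.Normal := Subgroup.normal_inf_normal _ _
  have hCg : ∀ g : C, (∀ u ∈ U, ρ g u ∈ U) ∧ ((∀ u ∈ U, ρ g u = u) → ρ g = 1) := fun g =>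
    hUg (ρ g) (hX₀σ g g.2.1) fun w => by
      rw [Commute, SemiconjBy, ← map_mul, ← map_mul,
        Subgroup.mem_centralizer_iff.mp g.2.2 _ (lift w).2]
  let ρC : C →* AddMonoid.End U := restrictHom (ρ.comp C.subtype) U fun g => (hCg g).1
  have hρC : Function.Injective ρC := (hom_injective_iff ρC).mpr fun g hg => Subtype.ext
    (hρ (((hCg g).2 fun u hu => congrArg Subtype.val (hg ⟨u, hu⟩)).trans (map_one ρ).symm))
  have hSC : p * ppart p C ≤ Nat.card U :=
    (IH C inferInstance (pfree_of_normal hfree C) U (fun u => Subtype.ext (hV u)) hUlt).one ρC hρC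
  -- a Sylow subgroup of `X₀` on the space
  obtain ⟨P₀⟩ : Nonempty (Sylow p X₀) := inferInstance
  set P : Subgroup X := (P₀ : Subgroup X₀).map X₀.subtype with hP
  have hPX₀ : P ≤ X₀ := Subgroup.map_subtype_le _
  have hPp : IsPGroup p P := P₀.isPGroup'.map _
  have hPcard : Nat.card P = ppart p X₀ := by
    rw [hP, Subgroup.card_map_of_injective X₀.subtype_injective, P₀.card_eq_multiplicity, ppart]
  let θ : X →* AddMonoid.End W :=
    { toFun := fun g => MonoidHom.toAdditive (QuotientGroup.map A' A' (MulAut.conjNormal g).toMonoidHom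
        fun a ha => by
          rw [Subgroup.mem_comap, hA', Subgroup.mem_subgroupOf]
          show ((MulAut.conjNormal g a : B) : X) ∈ A
          rw [MulAut.conjNormal_apply]
          exact hAn.conj_mem _ ha g)
      map_one' := DFunLike.ext _ _ fun w => by
        obtain ⟨x, hx⟩ := QuotientGroup.mk_surjective (Additive.toMul w)
        show Additive.ofMul (QuotientGroup.map _ _ _ _ (Additive.toMul w)) = w
        rw [← hx, QuotientGroup.map_mk]
        simp [hx]
      map_mul' := fun g h => DFunLike.ext _ _ fun w => by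
        obtain ⟨x, hx⟩ := QuotientGroup.mk_surjective (Additive.toMul w)
        obtain rfl : w = Additive.ofMul (QuotientGroup.mk x) := (congrArg Additive.ofMul hx).symm
        show Additive.ofMul (QuotientGroup.mk (MulAut.conjNormal (g * h) x) : B ⧸ A') =
          Additive.ofMul (QuotientGroup.mk (MulAut.conjNormal g (MulAut.conjNormal h x)) : B ⧸ A')
        rw [map_mul]
        rfl }
  have hθ : ∀ (g : X) (w : W), (QuotientGroup.mk (lift (θ g w)) : B ⧸ A') =
      QuotientGroup.mk (MulAut.conjNormal g (lift w)) := by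
    intro g w
    rw [hlift]
    conv_lhs => rw [show w = Additive.ofMul (QuotientGroup.mk (lift w)) from
      (congrArg Additive.ofMul (hlift w)).symm]
    rfl
  have hpres : ∀ g ∈ X₀, ∀ a b, c (θ g a) (θ g b) = c a b := by
    intro g hg a b
    show J (lift (θ g a)) (lift (θ g b)) = J (lift a) (lift b)
    rw [hJmk _ _ _ (hθ g a), hJr _ _ _ (hθ g b)]
    refine hJinj _ _ ?_
    rw [hJ, hJ, MulAut.conjNormal_apply, MulAut.conjNormal_apply]
    congr 1
    have := hX₀A g hg _ (hBcomm _ (lift a).2 _ (lift b).2)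
    calc _ = g * ((lift a : X) * (lift b : X) * (lift a : X)⁻¹ * (lift b : X)⁻¹) * g⁻¹ := by group
      _ = _ := by rw [← this, mul_inv_cancel_right]
  set θP := (θ.comp P.subtype).toHomUnits with hθP
  set Pk := θP.ker.map P.subtype with hPk
  have hPkC : Pk ≤ C := by
    rintro g ⟨n, hn, rfl⟩
    refine ⟨hPX₀ n.2, Subgroup.mem_centralizer_iff.mpr fun y hy => ?_⟩
    set g : X := P.subtype n with hg
    have hgX₀ : g ∈ X₀ := hPX₀ n.2
    have h1 : θ g = 1 := congrArg Units.val (MonoidHom.mem_ker.mp hn)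
    have hz1 : ∀ x ∈ B, g * x * g⁻¹ * x⁻¹ ∈ A := by
      intro x hx
      have h2 := hθ g (Additive.ofMul (QuotientGroup.mk (⟨x, hx⟩ : B)))
      rw [h1, end_one_apply] at h2
      have e := hlift (Additive.ofMul (QuotientGroup.mk (⟨x, hx⟩ : B) : B ⧸ A'))
      have h3 : (QuotientGroup.mk (⟨x, hx⟩ : B) : B ⧸ A') =
          QuotientGroup.mk (MulAut.conjNormal g (⟨x, hx⟩ : B)) :=
        e.symm.trans (h2.trans (by
          have e' := QuotientGroup.eq.mp e
          rw [QuotientGroup.eq, ← map_inv, ← map_mul]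
          show ((MulAut.conjNormal g _ : B) : X) ∈ A
          rw [MulAut.conjNormal_apply]
          exact hAn.conj_mem _ e' g))
      rw [QuotientGroup.eq, hA', Subgroup.mem_subgroupOf] at h3
      have h4 : x⁻¹ * (g * x * g⁻¹) ∈ A := by simpa using h3
      have h5 := hcen x hx _ h4
      rw [← mul_assoc, mul_inv_cancel, one_mul] at h5
      rwa [h5, mul_assoc, mul_inv_cancel, mul_one]
    have hq1 : ∀ x ∈ B, g ^ q * x = x * g ^ q := by
      intro x hx
      set a := g * x * g⁻¹ * x⁻¹ with ha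
      have hgx : g * x = a * (x * g) := hz g x
      have hga : g * a = a * g := (hX₀A g hgX₀ a (hz1 x hx)).symm
      have hxa : x * a = a * x := hcen x hx a (hz1 x hx)
      have haq : a ^ q = 1 := by
        have e1 : (g * x * g⁻¹) ^ q = x ^ q := by
          rw [conj_pow, ← hX₀A g hgX₀ _ (hBq x hx), mul_inv_cancel_right]
        rw [show g * x * g⁻¹ = a * x by rw [ha, inv_mul_cancel_right],
          (Commute.mul_pow (hxa.symm : Commute a x))] at e1
        exact mul_right_cancel (e1.trans (one_mul _).symm)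
      rw [comm_pow_left hgx hga q, haq, one_mul]
    -- the order is prime to `q`
    obtain ⟨k, hk⟩ := hPp n
    have hgk : g ^ p ^ k = 1 := by rw [hg, ← map_pow, hk, map_one]
    have hcp : Nat.Coprime q (orderOf g) := Nat.Coprime.coprime_dvd_right (orderOf_dvd_of_pow_eq_one hgk)
      (Nat.Coprime.pow_right k ((Nat.coprime_primes hq hp.out).mpr hqp))
    obtain ⟨m, hm⟩ := exists_pow_eq_self_of_coprime hcp
    rw [← hm]
    exact (Commute.pow_left (hq1 y hy : Commute (g ^ q) y) m).eq.symm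
  have hPkcard : Nat.card θP.ker ≤ ppart p C := by
    have h1 : IsPGroup p (Pk.subgroupOf C) :=
      ((hPp.to_subgroup θP.ker).map P.subtype).comap_subtype
    have h2 := ppart_le_of_pgroup h1
    rwa [Nat.card_congr (Subgroup.subgroupOfEquivOfLe hPkC).toEquiv, hPk,
      Subgroup.card_map_of_injective P.subtype_injective] at h2
  haveI : Finite θP.range := Finite.of_surjective θP.rangeRestrict θP.rangeRestrict_surjective
  obtain ⟨a, ha⟩ := IsPGroup.iff_card.mp (hPp.of_surjective θP.rangeRestrict θP.rangeRestrict_surjective)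
  have hdvd : p ^ a ∣ sympProd q s := by
    rw [← ha]
    exact isometry_card_dvd (W := W) (Ne.symm hqp) s c halt hnd hs
      (hPp.of_surjective θP.rangeRestrict θP.rangeRestrict_surjective)
      ((Units.coeHom _).comp θP.range.subtype) (Units.val_injective.comp Subtype.val_injective)
      (by rintro ⟨_, n, rfl⟩ x y; exact hpres _ (hPX₀ n.2) x y)
  have hSX₀ : ppart p X₀ ≤ ppart p C * p ^ a := by
    rw [← hPcard, ← θP.ker.card_mul_index, Subgroup.index_ker, ha]
    exact Nat.mul_le_mul_right _ hPkcard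
  have harith := arith_bound hp.out hq (Ne.symm hqp) hd1 hs1 hqd hdvd
  calc p * ppart p X ≤ p * (ppart p C * p ^ a * d) :=
        Nat.mul_le_mul_left p (hS.trans (Nat.mul_le_mul_right d hSX₀))
    _ = (p * ppart p C) * (d * p ^ a) := by ring
    _ ≤ Nat.card U * p ^ (d * (q ^ s - 1)) := Nat.mul_le_mul hSC harith
    _ ≤ Nat.card U * Nat.card U ^ (q ^ s - 1) := by
        rw [pow_mul]
        exact Nat.mul_le_mul_left _ (Nat.pow_le_pow_left (hFle U hUne hUst) _)
    _ = Nat.card V := by rw [← pow_succ', Nat.sub_add_cancel (by omega), hUcard]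

theorem exists_maximal_abelian_normal (X : Type*) [Group X] [Finite X] :
    ∃ A : Subgroup X, A.Normal ∧ (∀ a ∈ A, ∀ b ∈ A, a * b = b * a) ∧
      ∀ B : Subgroup X, B.Normal → (∀ a ∈ B, ∀ b ∈ B, a * b = b * a) → A ≤ B → B = A := by
  haveI : Finite (Subgroup X) :=
    Finite.of_injective (fun H => (H : Set X)) SetLike.coe_injective
  obtain ⟨A, ⟨hA1, hA2⟩, hA3⟩ := (Set.toFinite {A : Subgroup X | A.Normal ∧
    ∀ a ∈ A, ∀ b ∈ A, a * b = b * a}).exists_maximal ⟨⊥, inferInstance, fun a ha b hb => by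
      rw [Subgroup.mem_bot.mp ha, Subgroup.mem_bot.mp hb]⟩
  exact ⟨A, hA1, hA2, fun B h1 h2 h => le_antisymm (hA3 ⟨h1, h2⟩ h) h⟩

/-- The irreducible case. -/
theorem irreducible_case [Finite X] [Finite V] [Nontrivial V] (hsolv : Group.IsSolvable X)
    (hfree : PFree p X) (hV : ∀ x : V, p • x = 0) (IH : SmallerBound.{u, v} p (Nat.card V))
    (ρ : X →* AddMonoid.End V) (hρ : Function.Injective ρ)
    (hirr : ∀ W : AddSubgroup V, (∀ g, ∀ x ∈ W, ρ g x ∈ W) → W = ⊥ ∨ W = ⊤) :
    p * ppart p X ≤ Nat.card V := by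
  classical
  obtain ⟨A, hAn, hAab, hmax⟩ := exists_maximal_abelian_normal X
  haveI := hAn
  haveI : Nontrivial (AddMonoid.End V) := ⟨⟨1, 0, fun h => by
    obtain ⟨x, hx⟩ := exists_ne (0 : V)
    exact hx (congrArg (fun k : AddMonoid.End V => k x) h)⟩⟩
  set S : Set (AddMonoid.End V) := ρ '' (A : Set X) with hS
  set R := Subring.closure S with hR
  have hScomm : ∀ a ∈ S, ∀ b ∈ S, a * b = b * a := by
    rintro _ ⟨a, ha, rfl⟩ _ ⟨b, hb, rfl⟩
    rw [← map_mul, ← map_mul, hAab a ha b hb]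
  letI : CommRing R := Subring.closureCommRingOfComm hScomm
  have hcomm : ∀ a ∈ R, ∀ b ∈ R, a * b = b * a := fun a ha b hb =>
    congrArg Subtype.val (mul_comm (⟨a, ha⟩ : R) ⟨b, hb⟩)
  have hnorm : ∀ g, ∀ a ∈ R, ρ g * a * ρ g⁻¹ ∈ R := by
    intro g a ha
    induction ha using Subring.closure_induction with
    | mem x hx =>
      obtain ⟨y, hy, rfl⟩ := hx
      rw [← map_mul, ← map_mul]
      exact Subring.subset_closure ⟨_, hAn.conj_mem y hy g, rfl⟩
    | zero => simp
    | one => rw [mul_one, ← map_mul, mul_inv_cancel, map_one]; exact R.one_mem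
    | add x y _ _ hx hy => rw [mul_add, add_mul]; exact R.add_mem hx hy
    | neg x _ hx => rw [mul_neg, neg_mul]; exact R.neg_mem hx
    | mul x y _ _ hx hy =>
      have : ρ g * (x * y) * ρ g⁻¹ = ρ g * x * ρ g⁻¹ * (ρ g * y * ρ g⁻¹) := by
        rw [show ρ g * x * ρ g⁻¹ * (ρ g * y * ρ g⁻¹) = ρ g * x * (ρ g⁻¹ * ρ g) * y * ρ g⁻¹ by
          simp only [mul_assoc], rho_inv_mul, mul_one]
        simp only [mul_assoc]
      rw [this]; exact R.mul_mem hx hy
  have hpA : ¬ p ∣ Nat.card A := not_dvd_card_of_abelian hfree A hAab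
  -- the ring is reduced
  obtain ⟨N, hN1, hN⟩ : ∃ N, 2 ≤ N ∧ ∀ a ∈ R, a ^ N = a := by
    set k := (Nat.card A).totient with hk
    have hk0 : 0 < k := Nat.totient_pos.mpr Nat.card_pos
    refine ⟨p ^ k, le_trans hp.out.two_le (Nat.le_self_pow hk0.ne' p), fun a ha => ?_⟩
    haveI : CharP R p := (CharP.charP_iff_prime_eq_zero hp.out).mpr (Subtype.ext (by
      show ((p : R) : AddMonoid.End V) = 0
      rw [Subring.coe_natCast R p]
      exact DFunLike.ext _ _ fun x => (AddMonoid.End.natCast_apply p x).trans (hV x)))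
    suffices h : (⟨a, ha⟩ : R) ^ p ^ k = ⟨a, ha⟩ from congrArg Subtype.val h
    induction ha using Subring.closure_induction with
    | mem x hx =>
      obtain ⟨y, hy, rfl⟩ := hx
      apply Subtype.ext
      show ρ y ^ p ^ k = ρ y
      rw [← map_pow]
      congr 1
      have h1 : p ^ k ≡ 1 [MOD Nat.card A] :=
        Nat.ModEq.pow_totient (hp.out.coprime_iff_not_dvd.mpr hpA)
      have h2 : orderOf y ∣ Nat.card A := A.orderOf_dvd_natCard hy
      conv_rhs => rw [← pow_one y]
      exact pow_eq_pow_iff_modEq.mpr (h1.of_dvd h2)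
    | zero =>
      apply Subtype.ext
      show (0 : AddMonoid.End V) ^ p ^ k = 0
      exact zero_pow (pow_ne_zero _ hp.out.ne_zero)
    | one => exact Subtype.ext (one_pow _)
    | add x y hx' hy' hx hy =>
      show ((⟨x, hx'⟩ : R) + ⟨y, hy'⟩) ^ p ^ k = _
      rw [add_pow_char_pow, hx, hy]
      rfl
    | neg x hx' hx =>
      show (-(⟨x, hx'⟩ : R)) ^ p ^ k = _
      rw [neg_eq_neg_one_mul, mul_pow, hx, neg_one_pow_expChar_pow]
      exact Subtype.ext (by simp)
    | mul x y hx' hy' hx hy =>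
      show ((⟨x, hx'⟩ : R) * ⟨y, hy'⟩) ^ p ^ k = _
      rw [mul_pow, hx, hy]
      rfl
  by_cases hid : ∃ e ∈ R, e * e = e ∧ e ≠ 0 ∧ e ≠ 1
  · obtain ⟨e, he, hee, he0, he1⟩ := hid
    exact idempotent_case hsolv hfree hV IH ρ hρ hirr R hcomm hnorm he hee he0 he1
  -- otherwise it is a field
  push Not at hid
  haveI : Finite (AddMonoid.End V) :=
    Finite.of_injective (fun f => (f : V → V)) DFunLike.coe_injective
  have hfield : IsField R := by
    refine ⟨⟨0, 1, fun h => zero_ne_one (congrArg Subtype.val h : (0 : AddMonoid.End V) = 1)⟩,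
      mul_comm, fun {a} ha => ?_⟩
    have h1 : (a : AddMonoid.End V) ^ N = a := hN _ a.2
    have h2 : (a : AddMonoid.End V) ^ (N - 1) * a = a := by
      rw [← pow_succ, Nat.sub_add_cancel (by omega), h1]
    have h3 : ((a : AddMonoid.End V) ^ (N - 1)) * (a : AddMonoid.End V) ^ (N - 1) =
        (a : AddMonoid.End V) ^ (N - 1) := by
      conv_lhs =>
        arg 2
        rw [show N - 1 = (N - 2) + 1 by omega, pow_succ']
      rw [← mul_assoc, h2, ← pow_succ', show N - 2 + 1 = N - 1 by omega]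
    refine ⟨a ^ (N - 2), Subtype.ext ?_⟩
    show (a : AddMonoid.End V) * (a : AddMonoid.End V) ^ (N - 2) = 1
    rw [← pow_succ', show N - 2 + 1 = N - 1 by omega]
    refine hid _ (R.pow_mem a.2 _) h3 fun h => ha (Subtype.ext ?_)
    rw [← h2, h, zero_mul]
    rfl
  letI : Field R := hfield.toField
  haveI : Finite R := inferInstance
  exact field_case hsolv hfree hV IH ρ hρ R.subtype A hAab hmax
    (fun a ha => ⟨⟨ρ a, Subring.subset_closure ⟨a, ha, rfl⟩⟩, rfl⟩)
    (fun f hf r => by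
      obtain ⟨x, hx⟩ := r
      induction hx using Subring.closure_induction with
      | mem x hx => obtain ⟨y, hy, rfl⟩ := hx; exact hf y hy
      | zero => exact Commute.zero_right f
      | one => exact Commute.one_right f
      | add x y _ _ hx hy => exact hx.add_right hy
      | neg x _ hx => exact hx.neg_right
      | mul x y _ _ hx hy => exact hx.mul_right hy)
    fun g r => ⟨⟨_, hnorm g r r.2⟩, rfl⟩

theorem smallerBound : ∀ n, SmallerBound.{u, v} p n := by
  intro n
  induction n with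
  | zero => exact fun X _ _ _ _ V _ _ _ h => absurd h (Nat.not_lt_zero _)
  | succ n ih =>
    intro X _ _ hsolv hfree V _ _ hV hlt ρ hρ r U hU hUinv
    have IH : SmallerBound.{u, v} p (Nat.card V) :=
      fun Y _ _ h1 h2 W _ _ h3 h4 => ih Y h1 h2 W h3 (lt_of_lt_of_le h4 (Nat.lt_succ_iff.mp hlt))
    by_cases hred : ∃ W : AddSubgroup V, (∀ g, ∀ x ∈ W, ρ g x ∈ W) ∧ W ≠ ⊥ ∧ W ≠ ⊤
    · obtain ⟨W, hW, hb, ht⟩ := hred
      exact chain_step hsolv hfree hV IH ρ hρ hW hb ht r U hU hUinv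
    push Not at hred
    have hirr : ∀ W : AddSubgroup V, (∀ g, ∀ x ∈ W, ρ g x ∈ W) → W = ⊥ ∨ W = ⊤ :=
      fun W hW => or_iff_not_imp_left.mpr (hred W hW)
    rcases subsingleton_or_nontrivial V with hs | hs
    · haveI : Subsingleton X := ⟨fun a b => hρ (DFunLike.ext _ _ fun x => Subsingleton.elim _ _)⟩
      rcases Nat.eq_zero_or_pos r with rfl | hr
      · simp [ppart, Nat.card_unique]
      · exact absurd (SetLike.ext fun x => by rw [Subsingleton.elim x 0]; simp [zero_mem])
          (hU 0 hr).ne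
    · have hr : r ≤ 1 := by
        by_contra h
        have h0 := hU 0 (by omega)
        have h1 := hU 1 (by omega)
        rcases hirr (U 1) (hUinv 1) with e | e
        · exact not_lt_bot (e ▸ h0)
        · exact not_top_lt (e ▸ h1)
      calc p ^ r * ppart p X ≤ p * ppart p X := Nat.mul_le_mul_right _
            ((Nat.pow_le_pow_right hp.out.pos hr).trans (pow_one p).le)
        _ ≤ _ := irreducible_case hsolv hfree hV IH ρ hρ hirr

/-- `p` times the `p`-part of a solvable linear group without normal `p`-subgroups is at most the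
order of the module. -/
theorem ppart_bound [Finite X] [Finite V] [Nontrivial V] (hsolv : Group.IsSolvable X)
    (hfree : PFree p X) (hV : ∀ x : V, p • x = 0) (ρ : X →* AddMonoid.End V)
    (hρ : Function.Injective ρ) : p * ppart p X ≤ Nat.card V :=
  (smallerBound (Nat.card V + 1) X hsolv hfree V hV (Nat.lt_succ_self _)).one ρ hρ

end CfsgLib.LinearPPart
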