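import Cfsg.Agent.Lib.LinearPPart.Symp

/-!
# Splitting a space under commuting-up-to-a-root operators

Operators `τ w` on a finite abelian group, commuting up to a primitive `q`-th root of unity of a
finite field of scalars according to a non-degenerate alternating form on a space of order
`q ^ (2 s)`, with scalar `q`-th powers, cut out a subgroup whose order has `q ^ s`-th power the
order of the whole, stable and faithful for everything commuting with them.
-/

set_option autoImplicit false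

namespace CfsgLib.LinearPPart

variable {V : Type*} [AddCommGroup V]

/-- The endomorphisms mapping a subgroup into itself. -/
def stabRing (U : AddSubgroup V) : Subring (AddMonoid.End V) where
  carrier := {f | ∀ u ∈ U, f u ∈ U}
  mul_mem' {a b} ha hb u hu := ha _ (hb u hu)
  one_mem' u hu := hu
  add_mem' {a b} ha hb u hu := U.add_mem (ha u hu) (hb u hu)
  zero_mem' u _ := U.zero_mem
  neg_mem' {a} ha u hu := U.neg_mem (ha u hu)

/-- Restriction to a stable subgroup. -/
def resHom (U : AddSubgroup V) : stabRing U →+* AddMonoid.End U where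
  toFun f := AddMonoidHom.codRestrict ((f : AddMonoid.End V).comp U.subtype) U fun u => f.2 u u.2
  map_one' := by ext u; rfl
  map_mul' a b := by ext u; rfl
  map_zero' := by ext u; rfl
  map_add' a b := by ext u; rfl

theorem resHom_apply (U : AddSubgroup V) (f : stabRing U) (u : U) :
    (resHom U f u : V) = (f : AddMonoid.End V) u := rfl

theorem mem_stab_of_commute {e f : AddMonoid.End V} (h : Commute f e) :
    f ∈ stabRing (AddMonoidHom.range e) := by
  rintro u ⟨v, rfl⟩
  exact ⟨f v, congrArg (fun k : AddMonoid.End V => k v) h.eq.symm⟩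

theorem fix_range {e : AddMonoid.End V} (he : e * e = e) {u : V} (hu : u ∈ AddMonoidHom.range e) :
    e u = u := by
  obtain ⟨v, rfl⟩ := hu
  exact congrArg (fun k : AddMonoid.End V => k v) he

theorem end_sum_apply {ι : Type*} (s : Finset ι) (f : ι → AddMonoid.End V) (v : V) :
    (∑ i ∈ s, f i) v = ∑ i ∈ s, f i v :=
  AddMonoidHom.finsetSum_apply f s v

variable {F : Type*} [Field F] [Finite F] {q : ℕ} [hq : Fact q.Prime] (σ : F →+* AddMonoid.End V)

/-- Powers of an element of a finite field: the `q`-th powers. -/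
theorem exists_root {ζ : F} (hζ : IsPrimitiveRoot ζ q) {α : F} (hα : α ≠ 0) {β : F} (hβ : β ≠ 0) :
    (∃ γ : F, γ ≠ 0 ∧ γ ^ q = β) ∨ ∃ (i : ℕ) (γ : F), γ ≠ 0 ∧ γ ^ q = α * β ^ i := by
  haveI : Fintype Fˣ := Fintype.ofFinite _
  obtain ⟨m, hm⟩ : q ∣ Nat.card Fˣ := by
    have hu := hζ.isUnit_unit' hq.out.ne_zero
    have := orderOf_dvd_natCard (x := (hζ.isUnit hq.out.ne_zero).unit)
    rwa [← IsPrimitiveRoot.eq_orderOf (IsPrimitiveRoot.coe_units_iff.mp (by simpa using hζ))] at this
  obtain ⟨g, hg⟩ := IsCyclic.exists_generator (α := Fˣ)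
  have hord : orderOf g = q * m := by rw [← hm]; exact orderOf_eq_card_of_forall_mem_zpowers hg
  have hm0 : 0 < m := by
    rcases Nat.eq_zero_or_pos m with h | h
    · rw [h, mul_zero] at hm; exact absurd hm Nat.card_pos.ne'
    · exact h
  have key : ∀ x : Fˣ, x ^ m = 1 → ∃ γ : F, γ ≠ 0 ∧ γ ^ q = x := by
    intro x hx
    obtain ⟨k, rfl⟩ := (mem_powers_iff_mem_zpowers).mpr (hg x)
    simp only at hx ⊢
    rw [← pow_mul, ← orderOf_dvd_iff_pow_eq_one, hord] at hx
    obtain ⟨l, rfl⟩ := (Nat.mul_dvd_mul_iff_right hm0).mp hx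
    exact ⟨((g ^ l : Fˣ) : F), Units.ne_zero _, by rw [← Units.val_pow_eq_pow_val, ← pow_mul, mul_comm]⟩
  by_cases hb : (Units.mk0 β hβ) ^ m = 1
  · obtain ⟨γ, h0, h⟩ := key _ hb
    exact Or.inl ⟨γ, h0, by simpa using h⟩
  right
  have hroot : ∀ x : Fˣ, (x ^ m) ^ q = 1 := fun x => by
    rw [← pow_mul, mul_comm, ← hm, pow_card_eq_one']
  have hprim : IsPrimitiveRoot ((Units.mk0 β hβ) ^ m) q := by
    rw [← orderOf_eq_prime (hroot _) hb]
    exact IsPrimitiveRoot.orderOf _
  obtain ⟨i, -, hi'⟩ := (IsPrimitiveRoot.coe_units_iff.mpr hprim).eq_pow_of_pow_eq_one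
    (ξ := ((((Units.mk0 α hα) ^ m)⁻¹ : Fˣ) : F))
    (by rw [← Units.val_pow_eq_pow_val, inv_pow, hroot, inv_one, Units.val_one])
  have hi : ((Units.mk0 β hβ) ^ m) ^ i = ((Units.mk0 α hα) ^ m)⁻¹ := Units.ext (by
    rw [Units.val_pow_eq_pow_val]; exact hi')
  obtain ⟨γ, h0, h⟩ := key (Units.mk0 α hα * (Units.mk0 β hβ) ^ i) (by
    rw [mul_pow, ← pow_mul, mul_comm i m, pow_mul, hi, mul_inv_cancel])
  exact ⟨i, γ, h0, by simpa using h⟩

omit [Finite F] hq in
/-- Powers of a product of two operators commuting up to a scalar. -/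
theorem twisted_mul_pow {w v : AddMonoid.End V} {η : F} (hσw : ∀ r, Commute (σ r) w)
    (hσv : ∀ r, Commute (σ r) v) (h : w * v = σ η * (v * w)) :
    ∀ k : ℕ, (v * w) ^ k = σ (η ^ (k.choose 2)) * (v ^ k * w ^ k) := by
  have hpow : ∀ k : ℕ, w ^ k * v = σ (η ^ k) * (v * w ^ k) := by
    intro k
    induction k with
    | zero => simp
    | succ k ih =>
      calc w ^ (k + 1) * v = w * (w ^ k * v) := by rw [pow_succ', mul_assoc]
        _ = σ (η ^ k) * (w * (v * w ^ k)) := by rw [ih, ← mul_assoc w, ← (hσw _).eq, mul_assoc]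
        _ = σ (η ^ k) * ((w * v) * w ^ k) := by rw [mul_assoc w]
        _ = σ (η ^ (k + 1)) * (v * w ^ (k + 1)) := by
          rw [h, pow_succ η, map_mul, pow_succ' w]; simp only [mul_assoc]
  intro k
  induction k with
  | zero => simp
  | succ k ih =>
    calc (v * w) ^ (k + 1) = (v * w) ^ k * (v * w) := pow_succ _ _
      _ = σ (η ^ k.choose 2) * (v ^ k * ((w ^ k * v) * w)) := by rw [ih]; simp only [mul_assoc]
      _ = σ (η ^ k.choose 2) * (v ^ k * ((σ (η ^ k) * (v * w ^ k)) * w)) := by rw [hpow]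
      _ = σ (η ^ (k + 1).choose 2) * (v ^ (k + 1) * w ^ (k + 1)) := by
        rw [show v ^ k * (σ (η ^ k) * (v * w ^ k) * w) = σ (η ^ k) * (v ^ (k + 1) * w ^ (k + 1)) by
          rw [show v ^ k * (σ (η ^ k) * (v * w ^ k) * w) = v ^ k * σ (η ^ k) * (v * (w ^ k * w)) by
            simp only [mul_assoc], ← ((hσv (η ^ k)).pow_right k).eq, pow_succ v, pow_succ w]
          simp only [mul_assoc]]
        rw [← mul_assoc, ← map_mul, ← pow_add, Nat.choose_succ_succ', Nat.choose_one_right, add_comm]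

/-- An operator of order `q` twisted by another, built from a pair. -/
theorem exists_split_element [Finite V] {ζ : F} (hζ : IsPrimitiveRoot ζ q) (hqF : (q : F) ≠ 0)
    {u v : AddMonoid.End V} (hσu : ∀ r, Commute (σ r) u) (hσv : ∀ r, Commute (σ r) v)
    (huv : u * v = σ ζ * (v * u)) {α β : F} (hα : α ≠ 0) (hβ : β ≠ 0) (hu : u ^ q = σ β)
    (hv : v ^ q = σ α) :
    ∃ (x z : AddMonoid.End V) (η δ : F), IsPrimitiveRoot η q ∧ δ ≠ 0 ∧ x ^ q = 1 ∧ z ^ q = σ δ ∧
      z * x = σ η * (x * z) ∧ (∀ r, Commute (σ r) x) ∧ (∀ r, Commute (σ r) z) ∧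
      ∀ g, (∀ r, Commute g (σ r)) → Commute g u → Commute g v → Commute g x ∧ Commute g z := by
  by_cases hq2 : q = 2
  · subst hq2
    have hζ1 : ζ = -1 := hζ.eq_neg_one_of_two_right
    haveI : Fintype F := Fintype.ofFinite F
    obtain ⟨a, b, hab⟩ : ∃ a b : F, a ^ 2 - β * b ^ 2 = α⁻¹ := by
      classical
      have hodd : Fintype.card F % 2 = 1 := FiniteField.odd_card_of_char_ne_two fun h => hqF (by
        haveI := (ringChar.eq_iff.mp h); exact CharP.cast_eq_zero F 2)
      obtain ⟨a, b, h⟩ := FiniteField.exists_root_sum_quadratic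
        (f := Polynomial.X ^ 2 - Polynomial.C α⁻¹) (g := Polynomial.C (-β) * Polynomial.X ^ 2)
        (Polynomial.degree_X_pow_sub_C (by norm_num) _)
        (Polynomial.degree_C_mul_X_pow 2 (neg_ne_zero.mpr hβ)) hodd
      exact ⟨a, b, by simp at h; linear_combination h⟩
    have hneg : u * v = -(v * u) := by rw [huv, hζ1, map_neg, map_one, neg_one_mul]
    refine ⟨σ a * v + σ b * (v * u), u, -1, β, hζ1 ▸ hζ, hβ, ?_, hu, ?_, ?_, hσu, ?_⟩
    · have h1 : v * (v * u) + v * u * v = 0 := by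
        rw [mul_assoc v u v, hneg, mul_neg, add_neg_cancel]
      have h2 : v * u * (v * u) = -(σ (α * β)) := by
        rw [show v * u * (v * u) = v * (u * v) * u by simp only [mul_assoc], hneg,
          show v * -(v * u) * u = -(v * v * (u * u)) by simp only [mul_assoc, mul_neg, neg_mul],
          ← pow_two, ← pow_two, hu, hv, map_mul]
      rw [pow_two, add_mul, mul_add, mul_add]
      have e : ∀ (r s : F) (f g : AddMonoid.End V), (∀ t, Commute (σ t) f) →
          σ r * f * (σ s * g) = σ (r * s) * (f * g) := fun r s f g hf => by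
        rw [map_mul, mul_assoc, ← mul_assoc f, ← (hf s).eq]; simp only [mul_assoc]
      have hvu : ∀ t, Commute (σ t) (v * u) := fun t => (hσv t).mul_right (hσu t)
      rw [e _ _ _ _ hσv, e _ _ _ _ hσv, e _ _ _ _ hvu, e _ _ _ _ hvu, mul_comm b a,
        ← pow_two v, hv, h2, show σ (a * a) * σ α + σ (a * b) * (v * (v * u)) +
          (σ (a * b) * (v * u * v) + σ (b * b) * -σ (α * β)) = σ (a * a) * σ α +
          σ (a * b) * (v * (v * u) + v * u * v) + -(σ (b * b) * σ (α * β)) by
            rw [mul_add, mul_neg]; abel, h1, mul_zero, add_zero, ← map_mul, ← map_mul, ← map_neg,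
        ← map_add, ← map_one σ]
      congr 1
      have := congrArg (α * ·) hab
      rw [mul_inv_cancel₀ hα] at this
      linear_combination this
    · rw [mul_add, ← mul_assoc u, ← mul_assoc u, ← (hσu a).eq, ← (hσu b).eq, map_neg, map_one,
        neg_one_mul, add_mul, mul_assoc (σ a), hneg, mul_assoc (σ b), ← mul_assoc u v u, hneg]
      simp only [mul_assoc, neg_mul, mul_neg]
      abel
    · exact fun r => (((Commute.all r a).map σ).mul_right (hσv r)).add_right
        (((Commute.all r b).map σ).mul_right ((hσv r).mul_right (hσu r)))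
    · exact fun g hg hgu hgv => ⟨((hg a).mul_right hgv).add_right ((hg b).mul_right (hgv.mul_right hgu)), hgu⟩
  rcases exists_root hζ hα hβ with ⟨γ, hγ, hγq⟩ | ⟨i, γ, hγ, hγq⟩
  · refine ⟨σ γ⁻¹ * u, v, ζ⁻¹, α, hζ.inv, hα, ?_, hv, ?_, ?_, hσv, ?_⟩
    · rw [(hσu _).mul_pow, ← map_pow, hu, ← map_mul, inv_pow, hγq, inv_mul_cancel₀ hβ, map_one]
    · rw [mul_assoc (σ γ⁻¹) u v, huv, ← mul_assoc (σ γ⁻¹) (σ ζ), ← mul_assoc (σ ζ⁻¹), ← map_mul,
        ← map_mul, show ζ⁻¹ * (γ⁻¹ * ζ) = γ⁻¹ by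
          rw [mul_comm γ⁻¹, inv_mul_cancel_left₀ (hζ.ne_zero hq.out.ne_zero)],
        ← mul_assoc v, ← (hσv _).eq, mul_assoc]
    · exact fun r => ((Commute.all r _).map σ).mul_right (hσu r)
    · exact fun g hg hgu hgv => ⟨(hg _).mul_right hgu, hgv⟩
  · refine ⟨σ γ⁻¹ * (v * u ^ i), u, ζ, β, hζ, hβ, ?_, hu, ?_, ?_, hσu, ?_⟩
    · have hcomm : u ^ i * v = σ (ζ ^ i) * (v * u ^ i) := by
        clear hγq
        induction i with
        | zero => simp
        | succ i ih =>
          rw [pow_succ' u, mul_assoc, ih, ← mul_assoc u, ← (hσu _).eq, mul_assoc (σ (ζ ^ i)),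
            ← mul_assoc u v, huv, pow_succ ζ, map_mul]
          simp only [mul_assoc]
      have hvu : ∀ r, Commute (σ r) (v * u ^ i) := fun r => (hσv r).mul_right ((hσu r).pow_right i)
      have hdvd : q ∣ q.choose 2 := hq.out.dvd_choose_self two_ne_zero
        (lt_of_le_of_ne hq.out.two_le (Ne.symm hq2))
      rw [(hvu _).mul_pow, twisted_mul_pow σ (fun r => (hσu r).pow_right i) hσv hcomm q,
        ← pow_mul ζ, (hζ.pow_eq_one_iff_dvd _).mpr (dvd_mul_of_dvd_right hdvd i), map_one, one_mul,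
        hv, ← pow_mul u, mul_comm i q, pow_mul u, hu, ← map_pow, ← map_pow, ← map_mul, ← map_mul,
        inv_pow, hγq, inv_mul_cancel₀ (mul_ne_zero hα (pow_ne_zero i hβ)), map_one]
    · rw [← mul_assoc u, ← (hσu _).eq, mul_assoc (σ γ⁻¹), ← mul_assoc u v, huv,
        show σ γ⁻¹ * (v * u ^ i) * u = σ γ⁻¹ * (v * (u ^ i * u)) by simp only [mul_assoc],
        ← pow_succ, pow_succ' u]
      simp only [mul_assoc]
      rw [← mul_assoc (σ γ⁻¹), ← map_mul, mul_comm, map_mul, mul_assoc]
    · exact fun r => ((Commute.all r _).map σ).mul_right ((hσv r).mul_right ((hσu r).pow_right i))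
    · exact fun g hg hgu hgv => ⟨(hg _).mul_right (hgv.mul_right (hgu.pow_right i)), hgu⟩

/-- One step: an idempotent whose range has `q`-th power of order the whole. -/
theorem exists_split [Finite V] {ζ : F} (hζ : IsPrimitiveRoot ζ q) (hqF : (q : F) ≠ 0)
    {u v : AddMonoid.End V} (hσu : ∀ r, Commute (σ r) u) (hσv : ∀ r, Commute (σ r) v)
    (huv : u * v = σ ζ * (v * u)) {α β : F} (hα : α ≠ 0) (hβ : β ≠ 0) (hu : u ^ q = σ β)
    (hv : v ^ q = σ α) :
    ∃ e : AddMonoid.End V, Nat.card (AddMonoidHom.range e) ^ q = Nat.card V ∧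
      ∀ g, (∀ r, Commute g (σ r)) → Commute g u → Commute g v →
        Commute g e ∧ ((∀ w ∈ AddMonoidHom.range e, g w = w) → g = 1) := by
  obtain ⟨x, z, η, δ, hη, hδ, hx, hz, hzx, hσx, hσz, hgxz⟩ :=
    exists_split_element σ hζ hqF hσu hσv huv hα hβ hu hv
  obtain ⟨S, hS⟩ : ∃ S : AddMonoid.End V, S = ∑ i ∈ Finset.range q, x ^ i := ⟨_, rfl⟩
  obtain ⟨e, he⟩ : ∃ e : AddMonoid.End V, e = σ (q : F)⁻¹ * S := ⟨_, rfl⟩
  have hxS : x * S = S := by
    have h := geom_sum_succ (x := x) (n := q)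
    have h' := geom_sum_succ' (x := x) (n := q)
    rw [h', hx, add_comm, ← hS] at h
    exact (add_right_cancel h).symm
  have hxe : x * e = e := by rw [he, ← mul_assoc, ← (hσx _).eq, mul_assoc, hxS]
  have hex : e * x = e := by
    have : Commute e x := by
      rw [he, hS]
      exact (hσx _).mul_left (Commute.sum_left _ _ _ fun i _ => (Commute.self_pow x i).symm)
    rw [this.eq, hxe]
  have hee : e * e = e := by
    have hxi : ∀ i : ℕ, x ^ i * e = e := fun i => by
      induction i with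
      | zero => simp
      | succ i ih => rw [pow_succ, mul_assoc, hxe, ih]
    have : e * e = σ (q : F)⁻¹ * ∑ i ∈ Finset.range q, x ^ i * e := by
      rw [← Finset.sum_mul, ← hS, ← mul_assoc, ← he]
    rw [this, Finset.sum_congr rfl fun i _ => hxi i, Finset.sum_const, Finset.card_range,
      nsmul_eq_mul, ← map_natCast σ, ← mul_assoc, ← map_mul, inv_mul_cancel₀ hqF, map_one, one_mul]
  have hσe : ∀ r, Commute (σ r) e := fun r => by
    rw [he, hS]
    exact ((Commute.all r _).map σ).mul_right (Commute.sum_right _ _ _ fun i _ => (hσx r).pow_right i)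
  have hzpow : ∀ k : ℕ, z ^ k * x = σ (η ^ k) * (x * z ^ k) := by
    intro k
    induction k with
    | zero => simp
    | succ k ih =>
      rw [pow_succ' z, mul_assoc, ih, ← mul_assoc z, ← (hσz _).eq, mul_assoc, ← mul_assoc z x,
        hzx, pow_succ η, map_mul]
      simp only [mul_assoc]
  have horth : ∀ k : ℕ, ¬ q ∣ k → e * z ^ k * e = 0 := by
    intro k hk
    have h1 : e * z ^ k * e = σ (η ^ k) * (e * z ^ k * e) := by
      calc e * z ^ k * e = e * (z ^ k * (x * e)) := by rw [hxe, mul_assoc]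
        _ = e * ((z ^ k * x) * e) := by rw [mul_assoc]
        _ = σ (η ^ k) * ((e * x) * (z ^ k * e)) := by
          rw [hzpow, ← mul_assoc, ← mul_assoc, ← ((hσe _)).eq]
          simp only [mul_assoc]
        _ = σ (η ^ k) * (e * z ^ k * e) := by rw [hex, mul_assoc e]
    have h2 : σ (1 - η ^ k) * (e * z ^ k * e) = 0 := by rw [map_sub, map_one, sub_mul, one_mul, ← h1, sub_self]
    have hne : (1 : F) - η ^ k ≠ 0 := sub_ne_zero.mpr fun h => hk ((hη.pow_eq_one_iff_dvd k).mp h.symm)
    have := congrArg (σ (1 - η ^ k)⁻¹ * ·) h2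
    simp only [mul_zero] at this
    rwa [← mul_assoc, ← map_mul, inv_mul_cancel₀ hne, map_one, one_mul] at this
  obtain ⟨z', hz'⟩ : ∃ z' : AddMonoid.End V, z' = σ δ⁻¹ * z ^ (q - 1) := ⟨_, rfl⟩
  have hzz' : z * z' = 1 ∧ z' * z = 1 := by
    have hq1 : q - 1 + 1 = q := Nat.succ_pred_eq_of_pos hq.out.pos
    constructor
    · rw [hz', ← mul_assoc, ← (hσz _).eq, mul_assoc, ← pow_succ', hq1, hz, ← map_mul,
        inv_mul_cancel₀ hδ, map_one]
    · rw [hz', mul_assoc, ← pow_succ, hq1, hz, ← map_mul, inv_mul_cancel₀ hδ, map_one]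
  have hc : Commute z z' := hzz'.1.trans hzz'.2.symm
  have hcancel : ∀ k : ℕ, z ^ k * z' ^ k = 1 := fun k => by rw [← hc.mul_pow, hzz'.1, one_pow]
  have hcancel' : ∀ k : ℕ, z' ^ k * z ^ k = 1 := fun k => by rw [← hc.symm.mul_pow, hzz'.2, one_pow]
  have hsum : ∑ j ∈ Finset.range q, z ^ j * e * z' ^ j = 1 := by
    have hterm : ∀ j i : ℕ, z ^ j * x ^ i * z' ^ j = σ ((η ^ i) ^ j) * x ^ i := by
      intro j i
      have hji : z ^ j * x ^ i = σ ((η ^ i) ^ j) * (x ^ i * z ^ j) := by
        induction i with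
        | zero => simp
        | succ i ih =>
          rw [pow_succ x, ← mul_assoc, ih, mul_assoc, mul_assoc, hzpow, ← mul_assoc (x ^ i),
            ← ((hσx _).pow_right i).eq, pow_succ η, mul_pow, map_mul]
          simp only [mul_assoc]
      rw [hji, mul_assoc, mul_assoc, hcancel, mul_one]
    calc ∑ j ∈ Finset.range q, z ^ j * e * z' ^ j
        = ∑ j ∈ Finset.range q, ∑ i ∈ Finset.range q, σ ((q : F)⁻¹ * (η ^ i) ^ j) * x ^ i := by
          refine Finset.sum_congr rfl fun j _ => ?_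
          rw [he, hS, Finset.mul_sum, Finset.mul_sum, Finset.sum_mul]
          refine Finset.sum_congr rfl fun i _ => ?_
          rw [← mul_assoc (z ^ j), ← ((hσz _).pow_right j).eq, map_mul, mul_assoc (σ _) (z ^ j),
            mul_assoc (σ _), hterm, mul_assoc]
      _ = ∑ i ∈ Finset.range q, σ (∑ j ∈ Finset.range q, (q : F)⁻¹ * (η ^ i) ^ j) * x ^ i := by
          rw [Finset.sum_comm]
          exact Finset.sum_congr rfl fun i _ => by rw [map_sum, Finset.sum_mul]
      _ = 1 := by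
          rw [Finset.sum_eq_single 0]
          · simp [hqF]
          · intro i hi hi0
            have hne : η ^ i ≠ 1 := fun h => hi0 (Nat.eq_zero_of_dvd_of_lt
              ((hη.pow_eq_one_iff_dvd i).mp h) (Finset.mem_range.mp hi))
            rw [← Finset.mul_sum, geom_sum_eq hne, ← pow_mul, mul_comm i q, pow_mul, hη.pow_eq_one,
              one_pow, sub_self, zero_div, mul_zero, map_zero, zero_mul]
          · exact fun h => absurd (Finset.mem_range.mpr hq.out.pos) h
  refine ⟨e, ?_, ?_⟩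
  · haveI : Fintype (AddMonoidHom.range e) := Fintype.ofFinite _
    let Φ : (Fin q → AddMonoidHom.range e) → V := fun w => ∑ j : Fin q, (z ^ (j : ℕ)) (w j : V)
    let Ψ : V → (Fin q → AddMonoidHom.range e) := fun t j => ⟨e ((z' ^ (j : ℕ)) t), _, rfl⟩
    have hR : ∀ t, Φ (Ψ t) = t := by
      intro t
      have h := congrArg (fun k : AddMonoid.End V => k t) hsum
      rw [← Fin.sum_univ_eq_sum_range (fun j => z ^ j * e * z' ^ j) q] at h
      simp only [end_sum_apply, end_mul_apply, end_one_apply] at h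
      exact h
    have hL : ∀ w, Ψ (Φ w) = w := by
      intro w
      funext k
      refine Subtype.ext ?_
      show e ((z' ^ (k : ℕ)) (∑ j : Fin q, (z ^ (j : ℕ)) (w j : V))) = w k
      rw [map_sum, map_sum, Finset.sum_eq_single k]
      · rw [← end_mul_apply (z' ^ (k : ℕ)), hcancel', end_one_apply, fix_range hee (w k).2]
      · intro j _ hjk
        rw [← fix_range hee (w j).2, ← end_mul_apply, ← end_mul_apply, ← end_mul_apply]
        have : e * (z' ^ (k : ℕ) * (z ^ (j : ℕ) * e)) = 0 := by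
          have hk : z' ^ (k : ℕ) = σ (δ⁻¹ ^ (k : ℕ)) * z ^ ((q - 1) * (k : ℕ)) := by
            rw [hz', (hσz _).pow_right (q - 1) |>.mul_pow, ← map_pow, ← pow_mul]
          rw [hk, mul_assoc (σ _), ← mul_assoc e, ← (hσe _).eq, mul_assoc, ← mul_assoc (z ^ _), ← pow_add,
            ← mul_assoc e, horth _ ?_, mul_zero]
          intro hd
          refine hjk (Fin.ext ?_)
          have e1 : (((q - 1) * (k : ℕ) + j : ℕ) : ZMod q) = 0 := by
            rwa [ZMod.natCast_eq_zero_iff]
          rw [Nat.cast_add, Nat.cast_mul, Nat.cast_sub hq.out.one_le, ZMod.natCast_self, zero_sub,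
            Nat.cast_one, neg_one_mul, neg_add_eq_zero, ZMod.natCast_eq_natCast_iff'] at e1
          rwa [Nat.mod_eq_of_lt k.2, Nat.mod_eq_of_lt j.2, eq_comm] at e1
        simp only [mul_assoc]
        rw [this]; rfl
      · exact fun h => absurd (Finset.mem_univ k) h
    rw [← Nat.card_congr (Equiv.mk Φ Ψ hL hR), Nat.card_fun, Nat.card_eq_fintype_card (α := Fin q),
      Fintype.card_fin]
  · intro g hg hgu hgv
    obtain ⟨hgx, hgz⟩ := hgxz g hg hgu hgv
    refine ⟨by rw [he, hS]; exact (hg _).mul_right (Commute.sum_right _ _ _ fun i _ => hgx.pow_right i),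
      fun hfix => ?_⟩
    refine DFunLike.ext _ _ fun t => ?_
    have h := congrArg (fun k : AddMonoid.End V => k t) hsum
    simp only [end_sum_apply, end_mul_apply, end_one_apply] at h
    rw [end_one_apply]
    conv_lhs => rw [← h]
    rw [map_sum]
    conv_rhs => rw [← h]
    refine Finset.sum_congr rfl fun j _ => ?_
    rw [← end_mul_apply g, (hgz.pow_right j).eq, end_mul_apply]
    exact congrArg (z ^ j) (hfix _ ⟨_, rfl⟩)

theorem commute_resHom {V : Type*} [AddCommGroup V] {U : AddSubgroup V} {f g : stabRing U}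
    (h : Commute (f : AddMonoid.End V) g) : Commute (resHom U f) (resHom U g) :=
  (Subtype.ext h : f * g = g * f) |> fun h' => Commute.map h' (resHom U)

/-- Splitting along a whole non-degenerate space of operators. -/
theorem exists_split_rec {ζ : F} (hζ : IsPrimitiveRoot ζ q) (hqF : (q : F) ≠ 0) :
    ∀ (s : ℕ) {V : Type*} [AddCommGroup V] [Finite V] (σ : F →+* AddMonoid.End V)
      {W : Type*} [AddCommGroup W] [Finite W] (c : W →+ W →+ ZMod q),
      (∀ w, c w w = 0) → (∀ w, (∀ x, c w x = 0) → w = 0) → Nat.card W = q ^ (2 * s) →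
      ∀ (τ : W → AddMonoid.End V), (∀ r w, Commute (σ r) (τ w)) →
      (∀ a b, τ a * τ b = σ (ζ ^ (c a b).val) * (τ b * τ a)) →
      (∀ w, ∃ α : F, α ≠ 0 ∧ τ w ^ q = σ α) →
      ∃ U : AddSubgroup V, Nat.card U ^ (q ^ s) = Nat.card V ∧ (∀ r, ∀ u ∈ U, σ r u ∈ U) ∧
        ∀ g, (∀ r, Commute g (σ r)) → (∀ w, Commute g (τ w)) →
          (∀ u ∈ U, g u ∈ U) ∧ ((∀ u ∈ U, g u = u) → g = 1) := by
  intro s
  induction s with
  | zero =>
    intro V _ _ σ W _ _ c halt hnd hW τ hστ hτ hpow
    exact ⟨⊤, by simp, fun _ _ _ => trivial, fun g _ _ => ⟨fun _ _ => trivial,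
      fun h => DFunLike.ext _ _ fun v => h v trivial⟩⟩
  | succ s ih =>
    intro V _ _ σ W _ _ c halt hnd hW τ hστ hτ hpow
    obtain ⟨a, ha⟩ : ∃ a : W, a ≠ 0 := by
      have : 1 < Nat.card W := by rw [hW]; exact Nat.one_lt_pow (by omega) hq.out.one_lt
      rw [Finite.one_lt_card_iff_nontrivial] at this
      exact exists_ne 0
    obtain ⟨b, hab⟩ := exists_pair c halt hnd ha
    obtain ⟨β, hβ, hu⟩ := hpow a
    obtain ⟨α, hα, hv⟩ := hpow b
    have huv : τ a * τ b = σ ζ * (τ b * τ a) := by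
      rw [hτ, hab, ZMod.val_one, pow_one]
    obtain ⟨e, hcard, he⟩ := exists_split σ hζ hqF (fun r => hστ r a) (fun r => hστ r b) huv hα hβ hu hv
    set U₁ : AddSubgroup V := AddMonoidHom.range e with hU₁
    have hσc : ∀ r, ∀ t, Commute (σ r) (σ t) := fun r t => (Commute.all r t).map σ
    have hσmem : ∀ r, σ r ∈ stabRing U₁ := fun r =>
      mem_stab_of_commute (he _ (hσc r) (hστ r a) (hστ r b)).1
    have hτc : ∀ w ∈ perp c a b, Commute (τ w) (τ a) ∧ Commute (τ w) (τ b) := by
      intro w hw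
      obtain ⟨h1, h2⟩ := mem_perp.mp hw
      exact ⟨by rw [Commute, SemiconjBy, hτ w a, form_anti c halt a w, h1]; simp,
        by rw [Commute, SemiconjBy, hτ w b, form_anti c halt b w, h2]; simp⟩
    have hτmem : ∀ w : perp c a b, τ w ∈ stabRing U₁ := fun w =>
      mem_stab_of_commute (he _ (fun r => (hστ r _).symm) (hτc _ w.2).1 (hτc _ w.2).2).1
    set σ' : F →+* AddMonoid.End U₁ := (resHom U₁).comp (σ.codRestrict (stabRing U₁) hσmem)
      with hσ'
    set τ' : perp c a b → AddMonoid.End U₁ := fun w => resHom U₁ ⟨τ w, hτmem w⟩ with hτ'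
    have hW' : Nat.card (perp c a b) = q ^ (2 * s) := by
      have h := card_perp c halt hab
      rw [hW, show 2 * (s + 1) = 2 + 2 * s by ring, pow_add] at h
      exact (Nat.eq_of_mul_eq_mul_left (pow_pos hq.out.pos 2) h).symm
    obtain ⟨U₂, hcard₂, hσ₂, hg₂⟩ := ih σ' (perpForm c a b) (fun w => halt _)
      (fun w hw => Subtype.ext (perp_nondeg c halt hnd hab w.2 fun x hx => hw ⟨x, hx⟩)) hW' τ'
      (fun r w => commute_resHom (hστ r _))
      (fun x y => by
        simp only [hτ', hσ', RingHom.comp_apply, ← map_mul]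
        exact congrArg _ (Subtype.ext (hτ _ _)))
      (fun w => by
        obtain ⟨γ, hγ, h⟩ := hpow w
        refine ⟨γ, hγ, ?_⟩
        simp only [hτ', hσ', RingHom.comp_apply, ← map_pow]
        exact congrArg _ (Subtype.ext h))
    refine ⟨U₂.map U₁.subtype, ?_, ?_, fun g hgσ hgτ => ?_⟩
    · rw [Nat.card_congr (U₂.equivMapOfInjective U₁.subtype U₁.subtype_injective).toEquiv.symm,
        pow_succ, pow_mul, hcard₂, hcard]
    · rintro r u ⟨x, hx, rfl⟩
      exact ⟨σ' r x, hσ₂ r x hx, rfl⟩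
    obtain ⟨hge, hfix⟩ := he g hgσ (hgτ a) (hgτ b)
    have hgmem : g ∈ stabRing U₁ := mem_stab_of_commute hge
    obtain ⟨hst, hf⟩ := hg₂ (resHom U₁ ⟨g, hgmem⟩) (fun r => commute_resHom (hgσ r))
      (fun w => commute_resHom (hgτ _))
    refine ⟨?_, fun h => hfix fun w hw => ?_⟩
    · rintro u ⟨x, hx, rfl⟩
      exact ⟨_, hst x hx, rfl⟩
    · have := hf fun x hx => Subtype.ext (h _ ⟨x, hx, rfl⟩)
      exact congrArg Subtype.val (congrArg (fun k : AddMonoid.End U₁ => k ⟨w, hw⟩) this)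

end CfsgLib.LinearPPart
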