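import Mathlib

/-!
# `p`-groups of isometries of a non-degenerate alternating form modulo another prime

The order of such a group divides the product of the numbers `q ^ (2 i) - 1`, `i = 1, …, s`,
where `q ^ (2 s)` is the order of the space.
-/

set_option autoImplicit false

namespace CfsgLib.LinearPPart

/-- The bound for the coprime isometry groups. -/
def sympProd (q : ℕ) : ℕ → ℕ
  | 0 => 1
  | s + 1 => (q ^ (2 * (s + 1)) - 1) * sympProd q s

variable {W : Type*} [AddCommGroup W] [Finite W] {q : ℕ} [hq : Fact q.Prime]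

/-- A hyperbolic pair splits off: the common perpendicular. -/
def perp (c : W →+ W →+ ZMod q) (v u : W) : AddSubgroup W := (c v).ker ⊓ (c u).ker

theorem mem_perp {c : W →+ W →+ ZMod q} {v u w : W} : w ∈ perp c v u ↔ c v w = 0 ∧ c u w = 0 := by
  simp [perp]

variable (c : W →+ W →+ ZMod q) (halt : ∀ w, c w w = 0)

include halt in
theorem form_anti (v w : W) : c w v = - c v w := by
  have h := halt (v + w)
  simp only [map_add, AddMonoidHom.add_apply, halt] at h
  linear_combination h

/-- The decomposition along a hyperbolic pair. -/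
theorem perp_decomp {v u : W} (hvu : c v u = 1) (w : W) :
    ∃ a b : ℕ, ∀ z, z = w - (a • v + b • u) → c v z = c v w - a • c v v - b • c v u ∧
      c u z = c u w - a • c u v - b • c u u ∧ (b : ZMod q) = c v w ∧ (a : ZMod q) = - c u w := by
  have _ := hvu
  refine ⟨(- c u w).val, (c v w).val, ?_⟩
  rintro z rfl
  refine ⟨?_, ?_, by simp, by simp⟩ <;> simp [map_sub, map_add, map_nsmul] <;> ring

include halt in
theorem sub_mem_perp {v u : W} (hvu : c v u = 1) (w : W) :
    ∃ a b : ℕ, w - (a • v + b • u) ∈ perp c v u := by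
  obtain ⟨a, b, h⟩ := perp_decomp c hvu w
  obtain ⟨h1, h2, hb, ha⟩ := h _ rfl
  refine ⟨a, b, mem_perp.mpr ⟨?_, ?_⟩⟩
  · rw [h1, halt, hvu]; simp [nsmul_eq_mul, hb]
  · rw [h2, halt, form_anti c halt v u, hvu]; simp [nsmul_eq_mul, ha]

include halt in
theorem card_perp {v u : W} (hvu : c v u = 1) :
    Nat.card W = q ^ 2 * Nat.card (perp c v u) := by
  set f : W →+ ZMod q × ZMod q := (c v).prod (c u) with hf
  have hsurj : Function.Surjective f := by
    rintro ⟨x, y⟩
    refine ⟨(-y).val • v + x.val • u, ?_⟩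
    simp [hf, map_add, map_nsmul, halt, hvu, form_anti c halt v u, nsmul_eq_mul]
  have hker : f.ker = perp c v u := by
    ext w; simp [hf, mem_perp]
  have h := f.ker.card_eq_card_quotient_mul_card_addSubgroup
  rw [h, Nat.card_congr (QuotientAddGroup.quotientKerEquivOfSurjective f hsurj).toEquiv, hker,
    Nat.card_prod, Nat.card_zmod]
  ring

include halt in
theorem perp_nondeg (hnd : ∀ w, (∀ x, c w x = 0) → w = 0) {v u : W} (hvu : c v u = 1)
    {w : W} (hw : w ∈ perp c v u) (h : ∀ x ∈ perp c v u, c w x = 0) : w = 0 := by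
  refine hnd w fun x => ?_
  obtain ⟨a, b, hab⟩ := sub_mem_perp c halt hvu x
  have h1 := h _ hab
  obtain ⟨hv, hu⟩ := mem_perp.mp hw
  rw [map_sub, map_add, map_nsmul, map_nsmul, form_anti c halt v w, form_anti c halt u w, hv, hu] at h1
  simpa using h1

/-- The form on the perpendicular. -/
def perpForm (v u : W) : perp c v u →+ perp c v u →+ ZMod q :=
  AddMonoidHom.mk' (fun w => (c (w : W)).comp (perp c v u).subtype) fun a b => by
    ext x; simp

theorem perpForm_apply (v u : W) (a b : perp c v u) : perpForm c v u a b = c (a : W) (b : W) := rfl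

omit [Finite W] in
include halt in
theorem exists_pair (hnd : ∀ w, (∀ x, c w x = 0) → w = 0) {v : W} (hv : v ≠ 0) :
    ∃ u, c v u = 1 := by
  have ⟨u0, hu0⟩ : ∃ u0, c v u0 ≠ 0 := by
    by_contra h
    push Not at h
    exact hv (hnd v h)
  have _ := halt
  exact ⟨((c v u0)⁻¹).val • u0, by simp [map_nsmul, nsmul_eq_mul, hu0]⟩

/-- The order of a non-degenerate space is an even power. -/
theorem exists_card_eq : ∀ (W : Type*) [AddCommGroup W] [Finite W] (c : W →+ W →+ ZMod q),
    (∀ w, c w w = 0) → (∀ w, (∀ x, c w x = 0) → w = 0) → ∃ s, Nat.card W = q ^ (2 * s) := by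
  intro W _ _ c halt hnd
  induction h : Nat.card W using Nat.strong_induction_on generalizing W with
  | _ n ih =>
    by_cases hW : Subsingleton W
    · exact ⟨0, by rw [← h]; simp [Nat.card_unique]⟩
    rw [not_subsingleton_iff_nontrivial] at hW
    obtain ⟨v, hv⟩ := exists_ne (0 : W)
    obtain ⟨u, hvu⟩ := exists_pair c halt hnd hv
    have hc := card_perp c halt hvu
    have hlt : Nat.card (perp c v u) < n := by
      rw [← h, hc]
      exact lt_mul_of_one_lt_left Nat.card_pos (Nat.one_lt_pow two_ne_zero hq.out.one_lt)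
    obtain ⟨s, hs⟩ := ih _ hlt (perp c v u) (perpForm c v u) (fun w => halt _)
      (fun w hw => Subtype.ext (perp_nondeg c halt hnd hvu w.2 fun x hx => hw ⟨x, hx⟩)) rfl
    exact ⟨s + 1, by rw [← h, hc, hs]; ring⟩

/-- Endomorphisms preserving a subgroup restrict to it. -/
def restrictHom {P : Type*} [Monoid P] {V : Type*} [AddCommGroup V] (φ : P →* AddMonoid.End V)
    (U : AddSubgroup V) (h : ∀ g, ∀ u ∈ U, φ g u ∈ U) : P →* AddMonoid.End U where
  toFun g := AddMonoidHom.codRestrict ((φ g).comp U.subtype) U fun u => h g u u.2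
  map_one' := by ext u; simp; rfl
  map_mul' a b := by ext u; simp; rfl

theorem restrictHom_apply {P : Type*} [Monoid P] {V : Type*} [AddCommGroup V]
    (φ : P →* AddMonoid.End V) (U : AddSubgroup V) (h : ∀ g, ∀ u ∈ U, φ g u ∈ U) (g : P) (u : U) :
    (restrictHom φ U h g u : V) = φ g u := rfl

theorem end_mul_apply {V : Type*} [AddCommGroup V] (f g : AddMonoid.End V) (v : V) :
    (f * g) v = f (g v) := rfl

theorem end_one_apply {V : Type*} [AddCommGroup V] (v : V) : (1 : AddMonoid.End V) v = v := rfl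

theorem hom_injective_iff {P : Type*} [Group P] {V : Type*} [AddCommGroup V]
    (φ : P →* AddMonoid.End V) :
    Function.Injective φ ↔ ∀ g, (∀ v, φ g v = v) → g = 1 := by
  constructor
  · intro h g hg
    exact h (by rw [map_one]; exact DFunLike.ext _ _ hg)
  · intro h a b hab
    have : a⁻¹ * b = 1 := h _ fun v => by
      rw [map_mul, ← hab, ← map_mul, inv_mul_cancel, map_one, end_one_apply]
    rwa [inv_mul_eq_one] at this

/-- The order of a `p`-group of isometries. -/
theorem isometry_card_dvd {p : ℕ} [hp : Fact p.Prime] (hpq : p ≠ q) :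
    ∀ (s : ℕ) {W : Type*} [AddCommGroup W] [Finite W] (c : W →+ W →+ ZMod q),
      (∀ w, c w w = 0) → (∀ w, (∀ x, c w x = 0) → w = 0) → Nat.card W = q ^ (2 * s) →
      ∀ {P : Type*} [Group P] [Finite P], IsPGroup p P → ∀ (φ : P →* AddMonoid.End W),
        Function.Injective φ → (∀ g a b, c (φ g a) (φ g b) = c a b) →
        Nat.card P ∣ sympProd q s := by
  intro s
  induction s with
  | zero =>
    intro W _ _ c halt hnd hs P _ _ hP φ hφ hpres
    simp only [Nat.mul_zero, pow_zero] at hs
    have hsub : Subsingleton W := (Nat.card_eq_one_iff_unique.mp hs).1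
    haveI : Subsingleton P := ⟨fun a b => hφ (DFunLike.ext _ _ fun w => Subsingleton.elim _ _)⟩
    simp [Nat.card_unique, sympProd]
  | succ s ih =>
    intro W _ _ c halt hnd hs P _ _ hP φ hφ hpres
    classical
    haveI : Fintype W := Fintype.ofFinite W
    haveI : Fintype P := Fintype.ofFinite P
    -- a short orbit
    have hinv : ∀ (g : P) (w : W), φ g⁻¹ (φ g w) = w := fun g w => by
      rw [← end_mul_apply, ← map_mul, inv_mul_cancel, map_one, end_one_apply]
    letI : MulAction P {w : W // w ≠ 0} :=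
      { smul := fun g w => ⟨φ g w.1, fun h => w.2 (by have := hinv g w.1; rw [h, map_zero] at this; exact this.symm)⟩
        one_smul := fun w => Subtype.ext (by show φ 1 w.1 = w.1; rw [map_one, end_one_apply])
        mul_smul := fun g h w => Subtype.ext (by show φ (g * h) w.1 = φ g (φ h w.1); rw [map_mul, end_mul_apply]) }
    have hSne : Nonempty {w : W // w ≠ 0} := by
      have : 1 < Nat.card W := by rw [hs]; exact Nat.one_lt_pow (by omega) hq.out.one_lt
      rw [Finite.one_lt_card_iff_nontrivial] at this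
      obtain ⟨v, hv⟩ := exists_ne (0 : W)
      exact ⟨⟨v, hv⟩⟩
    obtain ⟨v, hmin⟩ := Finite.exists_min fun w : {w : W // w ≠ 0} => Nat.card (MulAction.orbit P w)
    have hdiv : Nat.card (MulAction.orbit P v) ∣ q ^ (2 * (s + 1)) - 1 := by
      have hS : Nat.card {w : W // w ≠ 0} = q ^ (2 * (s + 1)) - 1 := by
        rw [← hs, Nat.card_eq_fintype_card, Nat.card_eq_fintype_card]
        exact (Fintype.card_subtype_compl _).trans (by rw [Fintype.card_subtype_eq])
      rw [← hS, Nat.card_congr (MulAction.selfEquivSigmaOrbits P {w : W // w ≠ 0}), Nat.card_sigma]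
      refine Finset.dvd_sum fun o _ => ?_
      obtain ⟨j, hj⟩ := hP.card_orbit v
      obtain ⟨k, hk⟩ := hP.card_orbit o.out
      have := hmin o.out
      rw [hj, hk] at this
      rw [hj, hk]
      exact pow_dvd_pow p ((Nat.pow_le_pow_iff_right hp.out.one_lt).mp this)
    set P₁ := MulAction.stabilizer P v with hP₁
    -- a partner fixed by the stabilizer
    obtain ⟨u₀, hu₀⟩ := exists_pair c halt hnd v.2
    set u₁ : W := ∑ x : P₁, φ (x : P) u₀ with hu₁
    have hvfix : ∀ x : P₁, φ (x : P) v.1 = v.1 := fun x =>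
      congrArg Subtype.val (MulAction.mem_stabilizer_iff.mp x.2)
    have hfix : ∀ x : P₁, φ (x : P) u₁ = u₁ := by
      intro x
      rw [hu₁, map_sum]
      refine Fintype.sum_equiv (Equiv.mulLeft x) _ _ fun y => ?_
      rw [← end_mul_apply, ← map_mul]
      rfl
    have hcu₁ : c v.1 u₁ = (Nat.card P₁ : ZMod q) := by
      rw [hu₁, map_sum]
      have : ∀ x : P₁, c v.1 (φ (x : P) u₀) = 1 := fun x => by
        conv_lhs => rw [← hvfix x]
        rw [hpres, hu₀]
      simp [this, Nat.card_eq_fintype_card]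
    have hne : (Nat.card P₁ : ZMod q) ≠ 0 := by
      rw [Ne, ZMod.natCast_eq_zero_iff]
      obtain ⟨j, hj⟩ := IsPGroup.iff_card.mp (hP.to_subgroup P₁)
      rw [hj]
      exact fun h => hpq ((Nat.prime_dvd_prime_iff_eq hq.out hp.out).mp (hq.out.dvd_of_dvd_pow h)).symm
    set u : W := (Nat.card P₁ : ZMod q)⁻¹.val • u₁ with hu
    have hvu : c v.1 u = 1 := by
      rw [hu, map_nsmul, hcu₁, nsmul_eq_mul, ZMod.natCast_val, ZMod.cast_id, inv_mul_cancel₀ hne]
    have hufix : ∀ x : P₁, φ (x : P) u = u := fun x => by rw [hu, map_nsmul, hfix]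
    have hmem : ∀ g : P₁, ∀ w ∈ perp c v.1 u, φ (g : P) w ∈ perp c v.1 u := by
      intro g w hw
      obtain ⟨h1, h2⟩ := mem_perp.mp hw
      refine mem_perp.mpr ⟨?_, ?_⟩
      · conv_lhs => rw [← hvfix g]
        rw [hpres, h1]
      · conv_lhs => rw [← hufix g]
        rw [hpres, h2]
    have hcard : Nat.card (perp c v.1 u) = q ^ (2 * s) := by
      have h := card_perp c halt hvu
      rw [hs, show 2 * (s + 1) = 2 + 2 * s by ring, pow_add] at h
      exact (Nat.eq_of_mul_eq_mul_left (pow_pos hq.out.pos 2) h).symm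
    set ψ := restrictHom (φ.comp P₁.subtype) (perp c v.1 u) hmem
    have hψ : Function.Injective ψ := by
      rw [hom_injective_iff]
      intro g hg
      refine Subtype.ext ((hom_injective_iff φ).mp hφ (g : P) fun w => ?_)
      obtain ⟨a, b, hab⟩ := sub_mem_perp c halt hvu w
      have h1 : φ (g : P) (w - (a • v.1 + b • u)) = w - (a • v.1 + b • u) :=
        congrArg Subtype.val (hg ⟨_, hab⟩)
      rw [map_sub, map_add, map_nsmul, map_nsmul, hvfix, hufix] at h1
      exact sub_left_inj.mp h1
    have hrec := ih (perpForm c v.1 u) (fun w => halt _)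
      (fun w hw => Subtype.ext (perp_nondeg c halt hnd hvu w.2 fun x hx => hw ⟨x, hx⟩)) hcard
      (hP.to_subgroup P₁) ψ hψ (fun g a b => hpres _ _ _)
    rw [← Subgroup.card_mul_index (MulAction.stabilizer P v), MulAction.index_stabilizer, sympProd,
      mul_comm (Nat.card P₁), ← Nat.card_coe_set_eq]
    exact Nat.mul_dvd_mul hdiv hrec

end CfsgLib.LinearPPart
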